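import Cfsg.Agent.Lib.Perm.SquarePlusOne.Setup

/-!
The case in which the subgroup of order `p` fixing the blocks is normal in the stabilizer of `a`.
-/

set_option autoImplicit false

namespace CfsgLib.Perm.SqOne

open MulAction Finset
open scoped Pointwise

variable {G Ω : Type*} [Group G] [Finite G] [MulAction G Ω] [Fintype Ω] [DecidableEq Ω]

namespace Setup

variable {p : ℕ} {a b : Ω} {B : Finset Ω} {P : Subgroup G} (S : Setup G p a b B P)
include S

omit [Finite G] in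
/-- Membership in the centralizer of `u` in the stabilizer of `a`. -/
theorem mem_cent {u g : G} :
    g ∈ stabilizer G a ⊓ Subgroup.centralizer ({u} : Set G) ↔ g • a = a ∧ g * u = u * g := by
  rw [Subgroup.mem_inf, Subgroup.mem_centralizer_singleton_iff, MulAction.mem_stabilizer_iff]

/-- No involution argument: the centralizer of `u` cannot be just `P`. -/
theorem case_one_regular {u : G} (hu : u ∈ P ⊓ stabilizer G B) (hup : u ^ p = 1)
    (hgen : ∀ v ∈ P ⊓ stabilizer G B, ∃ i : ℕ, v = u ^ i)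
    (hnorm : ∀ g ∈ stabilizer G a, g * u * g⁻¹ ∈ P ⊓ stabilizer G B)
    (htriv : ∀ g ∈ stabilizer G a, g • b = b → g * u = u * g → g = 1) : False := by
  classical
  haveI := S.fact
  have hp3 := S.three_le
  have hu1 : u ≠ 1 := by
    intro h
    obtain ⟨x, hx, hxb⟩ := Finset.exists_mem_ne (show 1 < B.card by rw [S.hBc]; exact S.hp.one_lt) b
    obtain ⟨v, hv, hvb⟩ := S.P0_trans hx
    obtain ⟨i, rfl⟩ := hgen v hv
    exact hxb (by rw [← hvb, h, one_pow, one_smul])
  -- `P` is normal in the stabilizer of `a`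
  have hPn : ∀ g ∈ stabilizer G a, ∀ v ∈ P, g * v * g⁻¹ ∈ P := by
    intro g hg v hv
    have hg' : g⁻¹ ∈ stabilizer G a := inv_mem hg
    obtain ⟨w, hw, hwb⟩ := S.P_trans
      (S.ne_a_of_smul (mul_mem (mul_mem hg (S.hP hv)) (inv_mem hg)) S.b_ne_a)
    obtain ⟨i, hi⟩ := hgen _ (hnorm _ hg')
    rw [inv_inv] at hi
    have hvu : (g * v * g⁻¹) * u = u * (g * v * g⁻¹) := by
      calc (g * v * g⁻¹) * u = g * (v * (g⁻¹ * u * g)) * g⁻¹ := by group
        _ = g * ((g⁻¹ * u * g) * v) * g⁻¹ := by rw [hi, S.P_comm hv (pow_mem hu.1 i)]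
        _ = u * (g * v * g⁻¹) := by group
    have hw' : w⁻¹ * (g * v * g⁻¹) = 1 := by
      refine htriv _ (mul_mem (inv_mem (S.hP hw)) (mul_mem (mul_mem hg (S.hP hv)) hg'))
        (by rw [mul_smul, inv_smul_eq_iff, hwb]) ?_
      rw [mul_assoc, hvu, ← mul_assoc, S.P_comm (inv_mem hw) hu.1, mul_assoc]
    rw [← inv_mul_eq_one.mp hw']
    exact hw
  -- the two-point stabilizer has fewer than `p` elements
  obtain ⟨H, hHdef⟩ : ∃ H : Subgroup G, H = stabilizer G a ⊓ stabilizer G b := ⟨_, rfl⟩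
  have hHmem : ∀ {g : G}, g ∈ H ↔ g • a = a ∧ g • b = b := fun {g} => by
    rw [hHdef, Subgroup.mem_inf, MulAction.mem_stabilizer_iff, MulAction.mem_stabilizer_iff]
  have hHu : ∀ h ∈ H, ∀ k ∈ H, h * u * h⁻¹ = k * u * k⁻¹ → h = k := by
    intro h hh k hk he
    have h1 := htriv (k⁻¹ * h) (hHmem.mp (mul_mem (inv_mem hk) hh)).1
      (hHmem.mp (mul_mem (inv_mem hk) hh)).2 (by
        calc k⁻¹ * h * u = k⁻¹ * (h * u * h⁻¹) * h := by group
          _ = k⁻¹ * (k * u * k⁻¹) * h := by rw [he]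
          _ = u * (k⁻¹ * h) := by group)
    exact (inv_mul_eq_one.mp h1).symm
  have hHcard : Nat.card H ≤ p - 1 := by
    have hex : ∀ h : H, ∃ r : ℕ, ¬ p ∣ r ∧ (h : G) * u * (h : G)⁻¹ = u ^ r := by
      intro h
      obtain ⟨r, hr⟩ := hgen _ (hnorm _ (hHmem.mp h.2).1)
      refine ⟨r, fun hd => hu1 ?_, hr⟩
      obtain ⟨k, rfl⟩ := hd
      rw [pow_mul, hup, one_pow, mul_inv_eq_one] at hr
      exact mul_eq_left.mp hr
    choose r hr0 hr using hex
    let f : H → {z : ZMod p // z ≠ 0} := fun h => ⟨(r h : ZMod p), fun e =>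
      hr0 h ((ZMod.natCast_eq_zero_iff _ _).mp e)⟩
    have hf : Function.Injective f := by
      intro h k e
      have e' : r h % p = r k % p := (ZMod.natCast_eq_natCast_iff' _ _ _).mp (congrArg Subtype.val e)
      refine Subtype.ext (hHu _ h.2 _ k.2 ?_)
      rw [hr, hr, pow_eq_pow_mod _ hup, e', ← pow_eq_pow_mod _ hup]
    refine (Nat.card_le_card_of_injective f hf).trans ?_
    rw [Nat.card_eq_fintype_card, Fintype.card_subtype_compl, Fintype.card_subtype_eq, ZMod.card]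
  -- at most one involution fixes `a` and `b`
  have huniq0 : ∀ s ∈ H, s ^ 2 = 1 → s ≠ 1 → s * u * s⁻¹ = u⁻¹ := by
    intro s hs hs2 hs1
    obtain ⟨r, hr⟩ := hgen _ (hnorm s (hHmem.mp hs).1)
    have h2 : u = u ^ (r * r) := by
      calc u = (s ^ 2) * u * (s ^ 2)⁻¹ := by rw [hs2]; group
        _ = s * (s * u * s⁻¹) * s⁻¹ := by simp [sq, mul_assoc]
        _ = s * u ^ r * s⁻¹ := by rw [hr]
        _ = (s * u * s⁻¹) ^ r := conj_pow.symm
        _ = u ^ (r * r) := by rw [hr, ← pow_mul]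
    have hou : orderOf u = p := orderOf_eq_prime hup hu1
    have h3 : ((r : ZMod p) - 1) * ((r : ZMod p) + 1) = 0 := by
      have h4 : ((1 : ℕ) : ZMod p) = ((r * r : ℕ) : ZMod p) := by
        rw [ZMod.natCast_eq_natCast_iff, ← hou]
        exact pow_eq_pow_iff_modEq.mp (by rw [pow_one, ← h2])
      push_cast at h4
      linear_combination -h4
    rcases mul_eq_zero.mp h3 with h | h
    · exfalso
      rw [sub_eq_zero] at h
      have h5 : r % p = 1 % p := (ZMod.natCast_eq_natCast_iff' _ _ _).mp (by rw [h, Nat.cast_one])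
      rw [pow_eq_pow_mod _ hup, h5, ← pow_eq_pow_mod _ hup, pow_one, mul_inv_eq_iff_eq_mul] at hr
      exact hs1 (htriv s (hHmem.mp hs).1 (hHmem.mp hs).2 hr)
    · rw [hr, eq_inv_iff_mul_eq_one, ← pow_succ]
      obtain ⟨k, hk⟩ : p ∣ r + 1 := (ZMod.natCast_eq_zero_iff _ _).mp (by push_cast; exact h)
      rw [hk, pow_mul, hup, one_pow]
  have huniq : ∀ x y : Ω, x ≠ y → ∀ s t : G, s ^ 2 = 1 → s ≠ 1 → t ^ 2 = 1 → t ≠ 1 →
      s • x = x → s • y = y → t • x = x → t • y = y → s = t := by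
    intro x y hxy s t hs2 hs1 ht2 ht1 hsx hsy htx hty
    obtain ⟨g, hga, hgb⟩ := S.h2 a b x y S.b_ne_a.symm hxy
    have key : ∀ w : G, w ^ 2 = 1 → w ≠ 1 → w • x = x → w • y = y →
        g⁻¹ * w * g ∈ H ∧ (g⁻¹ * w * g) ^ 2 = 1 ∧ g⁻¹ * w * g ≠ 1 := by
      intro w hw2 hw1 hwx hwy
      refine ⟨hHmem.mpr ⟨?_, ?_⟩, ?_, fun e => hw1 ?_⟩
      · rw [mul_smul, mul_smul, hga, hwx, inv_smul_eq_iff, hga]
      · rw [mul_smul, mul_smul, hgb, hwy, inv_smul_eq_iff, hgb]
      · rw [show (g⁻¹ * w * g) ^ 2 = g⁻¹ * w ^ 2 * g by simp [sq, mul_assoc], hw2]; group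
      · have := congrArg (fun z => g * z * g⁻¹) e
        simpa [mul_assoc] using this
    obtain ⟨hs, hs', hs''⟩ := key s hs2 hs1 hsx hsy
    obtain ⟨ht, ht', ht''⟩ := key t ht2 ht1 htx hty
    have := hHu _ hs _ ht ((huniq0 _ hs hs' hs'').trans (huniq0 _ ht ht' ht'').symm)
    exact mul_left_cancel (mul_right_cancel this)
  -- an involution fixing `a` and `b`
  obtain ⟨s, hsH, hs2, hs1⟩ : ∃ s ∈ H, s ^ 2 = 1 ∧ s ≠ 1 := by
    have heven : 2 ∣ Nat.card G := by
      haveI : IsPretransitive G Ω := ⟨fun x y => by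
        by_cases hxy : x = y
        · exact ⟨1, by rw [hxy, one_smul]⟩
        · obtain ⟨g, hg, -⟩ := S.h2 x y y x hxy (Ne.symm hxy)
          exact ⟨g, hg⟩⟩
      have h := Subgroup.card_mul_index (stabilizer G a)
      rw [MulAction.index_stabilizer_of_transitive, Nat.card_eq_fintype_card (α := Ω), S.hn] at h
      refine Dvd.dvd.trans ?_ (Dvd.intro_left _ h)
      obtain ⟨k, hk⟩ := S.hp.odd_of_ne_two S.hp2
      exact ⟨2 * k ^ 2 + 2 * k + 1, by rw [hk]; ring⟩
    haveI : Fact (Nat.Prime 2) := ⟨Nat.prime_two⟩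
    obtain ⟨t, ht⟩ := exists_prime_orderOf_dvd_card' (G := G) 2 heven
    have ht2 : t ^ 2 = 1 := by rw [← ht]; exact pow_orderOf_eq_one t
    have ht1 : t ≠ 1 := fun e => by rw [e, orderOf_one] at ht; exact absurd ht (by norm_num)
    obtain ⟨m, hm, hsg⟩ := sign_of_sq_eq_one (toPermHom G Ω t) (by rw [← map_pow, ht2, map_one])
    rw [S.hn] at hm
    rw [S.hsign] at hsg
    have hme : Even m := by
      by_contra h
      rw [(Nat.not_even_iff_odd.mp h).neg_one_pow] at hsg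
      exact absurd hsg (by decide)
    have h1 : 1 < (Finset.univ.filter fun x : Ω => toPermHom G Ω t x = x).card := by
      obtain ⟨k, hk⟩ := S.hp.odd_of_ne_two S.hp2
      obtain ⟨j, rfl⟩ := hme
      rw [hk] at hm
      ring_nf at hm ⊢
      omega
    obtain ⟨x, hx, y, hy, hxy⟩ := Finset.one_lt_card.mp h1
    rw [Finset.mem_filter, toPermHom_apply, toPerm_apply] at hx hy
    obtain ⟨g, hga, hgb⟩ := S.h2 a b x y S.b_ne_a.symm hxy
    refine ⟨g⁻¹ * t * g, hHmem.mpr ⟨?_, ?_⟩, ?_, fun e => ht1 ?_⟩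
    · rw [mul_smul, mul_smul, hga, hx.2, inv_smul_eq_iff, hga]
    · rw [mul_smul, mul_smul, hgb, hy.2, inv_smul_eq_iff, hgb]
    · rw [show (g⁻¹ * t * g) ^ 2 = g⁻¹ * t ^ 2 * g by simp [sq, mul_assoc], ht2]; group
    · have := congrArg (fun z => g * z * g⁻¹) e
      simpa [mul_assoc] using this
  obtain ⟨hsa, hsb⟩ := hHmem.mp hsH
  have hab : a ≠ b := S.b_ne_a.symm
  obtain ⟨F, hFdef⟩ : ∃ F : Finset Ω, F = (Finset.univ.filter fun x : Ω => s • x = x).erase a :=
    ⟨_, rfl⟩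
  have hFmem : ∀ {x : Ω}, x ∈ F ↔ x ≠ a ∧ s • x = x := fun {x} => by simp [hFdef]
  have hFP : ∀ v ∈ P, v • b ∈ F ↔ s * v = v * s := by
    intro v hv
    rw [hFmem]
    constructor
    · rintro ⟨-, h⟩
      have h1 : (s * v * s⁻¹) • b = v • b := by
        rw [mul_smul, mul_smul, inv_smul_eq_iff.mpr hsb.symm, h]
      exact mul_inv_eq_iff_eq_mul.mp (S.P_inj (hPn s hsa v hv) hv h1)
    · intro h
      exact ⟨S.ne_a_of_smul (S.hP hv) S.b_ne_a, by rw [← mul_smul, h, mul_smul, hsb]⟩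
  have hcomm : ∀ h ∈ H, s * h = h * s := by
    intro h hh
    have hH' : h * s * h⁻¹ ∈ H := mul_mem (mul_mem hh hsH) (inv_mem hh)
    have e := huniq a b hab (h * s * h⁻¹) s (by rw [conj_pow, hs2, mul_one, mul_inv_cancel])
      (fun e => hs1 (by simpa [mul_assoc] using congrArg (fun z => h⁻¹ * z * h) e)) hs2 hs1
      (hHmem.mp hH').1 (hHmem.mp hH').2 hsa hsb
    exact (mul_inv_eq_iff_eq_mul.mp e).symm
  have hF : ABlock G a F := by
    refine ⟨fun h => (hFmem.mp h).1 rfl, fun g hg x hx hgx y hy => ?_⟩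
    obtain ⟨v, hv, hvb⟩ := S.P_trans (S.ne_a_of_smul hg S.b_ne_a)
    have hh : v⁻¹ * g ∈ H := hHmem.mpr ⟨(mul_mem (inv_mem (S.hP hv)) hg : v⁻¹ * g ∈ stabilizer G a),
      by rw [mul_smul, inv_smul_eq_iff, hvb]⟩
    have hFh : ∀ z ∈ F, (v⁻¹ * g) • z ∈ F := by
      intro z hz
      exact hFmem.mpr ⟨S.ne_a_of_smul (mul_mem (inv_mem (S.hP hv)) hg) (hFmem.mp hz).1,
        by rw [← mul_smul, hcomm _ hh, mul_smul, (hFmem.mp hz).2]⟩
    have hx' := hFh x hx
    obtain ⟨w, hw, hwb⟩ := S.P_trans (hFmem.mp hx').1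
    have hsv : s * v = v * s := by
      have e1 : s * (v * w) = (v * w) * s := (hFP _ (mul_mem hv hw)).mp (by
        rw [mul_smul, hwb, mul_smul, smul_inv_smul]; exact hgx)
      have e2 : s * w = w * s := (hFP _ hw).mp (by rw [hwb]; exact hx')
      refine mul_right_cancel (b := w) ?_
      rw [mul_assoc, e1, mul_assoc, ← e2, ← mul_assoc]
    have hy' := hFh y hy
    refine hFmem.mpr ⟨S.ne_a_of_smul hg (hFmem.mp hy).1, ?_⟩
    have hgy : g • y = v • ((v⁻¹ * g) • y) := by rw [mul_smul, smul_inv_smul]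
    rw [hgy, ← mul_smul, hsv, mul_smul, (hFmem.mp hy').2]
  have hbF : b ∈ F := hFmem.mpr ⟨S.b_ne_a, hsb⟩
  obtain ⟨σ, hσa, hσb⟩ := exists_swap S.h2 S.b_ne_a
  rcases hF.card_cases S.h2 S.hp S.hn hbF with hc | hc | hc
  · -- exactly two fixed points
    have hfix : ∀ x, s • x = x → x = a ∨ x = b := by
      intro x hx
      by_cases hxa : x = a
      · exact Or.inl hxa
      · exact Or.inr (Finset.card_le_one.mp hc.le x (hFmem.mpr ⟨hxa, hx⟩) b hbF)
    have hss : ∀ z : Ω, s • s • z = z := fun z => by rw [← mul_smul, ← sq, hs2, one_smul]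
    have hexT : ∀ c : Ω, ∃ t : G, c ≠ a → c ≠ b →
        (σ⁻¹ * t ∈ H ∧ t • c = c ∧ ∀ z, t • z = z → z = c ∨ z = s • c) := by
      intro c
      by_cases hca : c = a
      · exact ⟨1, fun h => absurd hca h⟩
      by_cases hcb : c = b
      · exact ⟨1, fun _ h => absurd hcb h⟩
      have hcd : c ≠ s • c := fun e => (hfix c e.symm).elim hca hcb
      obtain ⟨g, hga, hgb⟩ := S.h2 a b c (s • c) hab hcd
      refine ⟨g * s * g⁻¹, fun _ _ => ?_⟩
      have ht2 : (g * s * g⁻¹) ^ 2 = 1 := by rw [conj_pow, hs2, mul_one, mul_inv_cancel]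
      have ht1 : g * s * g⁻¹ ≠ 1 := fun e => hs1 (by
        simpa [mul_assoc] using congrArg (fun z => g⁻¹ * z * g) e)
      have htc : (g * s * g⁻¹) • c = c := by
        rw [mul_smul, mul_smul, inv_smul_eq_iff.mpr hga.symm, hsa, hga]
      have htd : (g * s * g⁻¹) • s • c = s • c := by
        rw [mul_smul, mul_smul, inv_smul_eq_iff.mpr hgb.symm, hsb, hgb]
      have htfix : ∀ z, (g * s * g⁻¹) • z = z → z = c ∨ z = s • c := by
        intro z hz
        rw [mul_smul, mul_smul] at hz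
        rcases hfix (g⁻¹ • z) (smul_left_cancel g (by rw [smul_inv_smul]; exact hz)) with e | e
        · left; rw [← hga, ← e, smul_inv_smul]
        · right; rw [← hgb, ← e, smul_inv_smul]
      have hst : s * (g * s * g⁻¹) = (g * s * g⁻¹) * s := by
        have e := huniq c (s • c) hcd (s * (g * s * g⁻¹) * s⁻¹) (g * s * g⁻¹)
          (by rw [conj_pow, ht2, mul_one, mul_inv_cancel])
          (fun e => ht1 (by simpa [mul_assoc] using congrArg (fun z => s⁻¹ * z * s) e)) ht2 ht1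
          (by rw [mul_smul, mul_smul, inv_smul_eq_iff.mpr (hss c).symm, htd, hss])
          (by rw [mul_smul, mul_smul, inv_smul_smul, htc]) htc htd
        exact mul_inv_eq_iff_eq_mul.mp e
      have hta : (g * s * g⁻¹) • a = b := by
        rcases hfix ((g * s * g⁻¹) • a) (by rw [← mul_smul, hst, mul_smul, hsa]) with e | e
        · exact absurd (htfix a e) (by
            rintro (h | h)
            · exact hca h.symm
            · exact hca (by rw [← hss c, ← h, hsa]))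
        · exact e
      have htb : (g * s * g⁻¹) • b = a := by
        rw [← hta, ← mul_smul, ← sq, ht2, one_smul]
      refine ⟨hHmem.mpr ⟨?_, ?_⟩, htc, htfix⟩
      · rw [mul_smul, hta, inv_smul_eq_iff, hσa]
      · rw [mul_smul, htb, inv_smul_eq_iff, hσb]
    choose τ hτ using hexT
    have hM : ∀ c ∈ (Finset.univ.erase a).erase b, c ≠ a ∧ c ≠ b := fun c hc => by
      simp only [Finset.mem_erase] at hc
      exact ⟨hc.2.1, hc.1⟩
    have hle := Finset.card_le_mul_card_image (f := fun c => σ⁻¹ * τ c)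
      ((Finset.univ.erase a).erase b) 2 (fun g hg => by
        obtain ⟨c, hc, rfl⟩ := Finset.mem_image.mp hg
        refine (Finset.card_le_card ?_).trans (Finset.card_le_two (a := c) (b := s • c))
        intro d hd
        rw [Finset.mem_filter] at hd
        have e : τ d = τ c := mul_left_cancel hd.2
        have := (hτ c (hM c hc).1 (hM c hc).2).2.2 d (e ▸ (hτ d (hM d hd.1).1 (hM d hd.1).2).2.1)
        simpa using this)
    have himg : (((Finset.univ.erase a).erase b).image fun c => σ⁻¹ * τ c).card ≤ p - 1 := by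
      refine le_trans ?_ hHcard
      rw [← Nat.card_eq_finsetCard]
      exact Nat.card_le_card_of_injective (fun g => (⟨(g : G), by
        obtain ⟨c, hc, e⟩ := Finset.mem_image.mp g.2
        exact e ▸ (hτ c (hM c hc).1 (hM c hc).2).1⟩ : H))
        (fun g g' e => Subtype.ext (congrArg (fun z : H => (z : G)) e))
    rw [Finset.card_erase_of_mem (Finset.mem_erase.mpr ⟨S.b_ne_a, Finset.mem_univ b⟩),
      Finset.card_erase_of_mem (Finset.mem_univ a), Finset.card_univ, S.hn] at hle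
    have h1 : 2 * (((Finset.univ.erase a).erase b).image fun c => σ⁻¹ * τ c).card ≤ 2 * (p - 1) :=
      Nat.mul_le_mul_left 2 himg
    have h3 : 3 * p ≤ p ^ 2 := by rw [sq]; exact Nat.mul_le_mul_right p hp3
    omega
  · -- `p + 1` fixed points
    have hins : ∀ {z : Ω}, z ∈ insert a F ↔ s • z = z := fun {z} => by
      rw [Finset.mem_insert, hFmem]
      exact ⟨fun h => h.elim (fun e => e ▸ hsa) And.right, fun h =>
        (em (z = a)).imp_right fun hz => ⟨hz, h⟩⟩
    have hss' : σ⁻¹ * s * σ = s := by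
      refine huniq a b hab _ _ (by
        rw [show (σ⁻¹ * s * σ) ^ 2 = σ⁻¹ * s ^ 2 * σ by simp [sq, mul_assoc], hs2]; group)
        (fun e => hs1 (by simpa [mul_assoc] using congrArg (fun z => σ * z * σ⁻¹) e)) hs2 hs1 ?_ ?_
        hsa hsb
      · rw [mul_smul, mul_smul, hσa, hsb, inv_smul_eq_iff, hσa]
      · rw [mul_smul, mul_smul, hσb, hsa, inv_smul_eq_iff, hσb]
    have hσF : σ • insert a F = insert a F := by
      refine Finset.eq_of_subset_of_card_le ?_ (by rw [Finset.card_smul_finset])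
      intro z hz
      obtain ⟨w, hw, rfl⟩ := Finset.mem_smul_finset.mp hz
      rw [hins] at hw ⊢
      have := congrArg (fun g : G => g • w) hss'
      simp only [mul_smul] at this
      rwa [hw, inv_smul_eq_iff] at this
    exact (line_count S.h2 S.hp S.hp2 S.hn hF hF hbF hbF hc hc hσb hσF).2 rfl
  · -- the involution is trivial
    apply hs1
    apply S.faithful
    intro x
    by_cases hxa : x = a
    · rw [hxa, hsa]
    have hall : F = (Finset.univ : Finset Ω).erase a := by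
      refine Finset.eq_of_subset_of_card_le (fun z hz => Finset.mem_erase.mpr
        ⟨(hFmem.mp hz).1, Finset.mem_univ z⟩) ?_
      rw [hc, Finset.card_erase_of_mem (Finset.mem_univ a), Finset.card_univ, S.hn]
      omega
    exact (hFmem.mp (hall ▸ Finset.mem_erase.mpr ⟨hxa, Finset.mem_univ x⟩)).2

/-- The subgroup of `P` fixing `B` cannot be normal in the stabilizer of `a`. -/
theorem case_one (hP0 : ∀ g ∈ stabilizer G a, ∀ v ∈ P ⊓ stabilizer G B,
    g * v * g⁻¹ ∈ P ⊓ stabilizer G B) : False := by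
  classical
  haveI := S.fact
  obtain ⟨u, hu, hup, hgen⟩ := S.exists_gen
  obtain ⟨C, hC⟩ : ∃ C : Subgroup G, C = stabilizer G a ⊓ Subgroup.centralizer ({u} : Set G) :=
    ⟨_, rfl⟩
  have hCmem : ∀ {g : G}, g ∈ C ↔ g • a = a ∧ g * u = u * g := fun {g} => hC ▸ S.mem_cent
  by_cases htriv : ∀ g ∈ stabilizer G a, g • b = b → g * u = u * g → g = 1
  · exact S.case_one_regular hu hup hgen (fun g hg => hP0 g hg u hu) htriv
  simp only [not_forall] at htriv
  obtain ⟨c₀, hc₀a, hc₀b, hc₀u, hc₀1⟩ := htriv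
  have hCa : C ≤ stabilizer G a := fun g hg => (hCmem.mp hg).1
  have hCn : ∀ g ∈ stabilizer G a, ∀ x ∈ C, g * x * g⁻¹ ∈ C := by
    intro g hg x hx
    refine hCmem.mpr ⟨(mul_mem (mul_mem hg (hCa hx)) (inv_mem hg) : _ ∈ stabilizer G a), ?_⟩
    obtain ⟨r, hr⟩ := hgen _ (hP0 _ (inv_mem hg) u hu)
    rw [inv_inv] at hr
    have hxr : x * u ^ r = u ^ r * x := (Commute.pow_right (hCmem.mp hx).2 r).eq
    calc g * x * g⁻¹ * u = g * (x * (g⁻¹ * u * g)) * g⁻¹ := by group
      _ = g * ((g⁻¹ * u * g) * x) * g⁻¹ := by rw [hr, hxr]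
      _ = u * (g * x * g⁻¹) := by group
  have hPC : ∀ v ∈ P, v ∈ C := fun v hv => hCmem.mpr ⟨S.hP hv, S.P_comm hv hu.1⟩
  obtain ⟨Cb, hCb⟩ : ∃ Cb : Subgroup G, Cb = C ⊓ stabilizer G b := ⟨_, rfl⟩
  have hCbmem : ∀ {g : G}, g ∈ Cb ↔ g ∈ C ∧ g • b = b := fun {g} => by
    rw [hCb, Subgroup.mem_inf, MulAction.mem_stabilizer_iff]
  have hc₀ : c₀ ∈ Cb := hCbmem.mpr ⟨hCmem.mpr ⟨hc₀a, hc₀u⟩, hc₀b⟩
  have hCbB : ∀ g ∈ Cb, ∀ x ∈ B, g • x = x := by
    intro g hg x hx
    obtain ⟨hgC, hgb⟩ := hCbmem.mp hg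
    obtain ⟨v, hv, rfl⟩ := S.P0_trans hx
    obtain ⟨i, rfl⟩ := hgen v hv
    rw [← mul_smul, (Commute.pow_right (hCmem.mp hgC).2 i).eq, mul_smul, hgb]
  have hCK : ∀ g ∈ Cb, g ∈ kernel G a B → g = 1 := fun g hg hgK =>
    S.kernel_faithful hgK (self_mem_blocks a B) (hCbB g hg)
  obtain ⟨hF, hbF⟩ := S.fixSet_block (N := C) hCa hCn
  rw [← hCb] at hF hbF
  have hsubF : B ⊆ (fixSet (Ω := Ω) Cb).erase a := fun x hx => Finset.mem_erase.mpr
    ⟨fun h => S.hB.1 (h ▸ hx), mem_fixSet.mpr fun g hg => hCbB g hg x hx⟩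
  have hFB : (fixSet (Ω := Ω) Cb).erase a = B := by
    refine (Finset.eq_of_subset_of_card_le hsubF ?_).symm
    rcases S.fixBlock_card (fun g hg => hCa (hCbmem.mp hg).1) hc₀ hc₀1 hF hbF with h | h
    · rw [h, S.hBc]; exact S.hp.one_lt.le
    · rw [h, S.hBc]
  have hfixCb : ∀ x, (∀ g ∈ Cb, g • x = x) ↔ x ∈ insert a B := by
    intro x
    rw [← hFB, Finset.insert_erase (mem_fixSet.mpr fun g hg => hCa (hCbmem.mp hg).1), mem_fixSet]
  obtain ⟨s, hsa, hsb⟩ := exists_swap S.h2 S.b_ne_a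
  obtain ⟨hbD, hDc, hDins, hDinv⟩ := S.swap_line hsa hsb
  obtain ⟨D, hDdef⟩ : ∃ D : Finset Ω, D = (s • insert a B).erase a := ⟨_, rfl⟩
  rw [← hDdef] at hbD hDc hDins hDinv
  obtain ⟨T, hTdef⟩ : ∃ T : Subgroup G, T = Cb.map (MulAut.conj s).toMonoidHom := ⟨_, rfl⟩
  have hTmem : ∀ {g : G}, g ∈ T ↔ s⁻¹ * g * s ∈ Cb := fun {g} => by
    rw [hTdef, Subgroup.mem_map_equiv, MulAut.conj_symm_apply]
  have hTfix : ∀ x, (∀ g ∈ T, g • x = x) ↔ x ∈ insert a D := by
    intro x
    rw [hDins, ← Finset.inv_smul_mem_iff, ← hfixCb]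
    constructor
    · intro h g hg
      have := h (s * g * s⁻¹) (hTmem.mpr (by simpa [mul_assoc] using hg))
      rwa [mul_smul, mul_smul, smul_eq_iff_eq_inv_smul] at this
    · intro h g hg
      have := h _ (hTmem.mp hg)
      rwa [mul_smul, mul_smul, smul_inv_smul, smul_left_cancel_iff] at this
  have hTa : ∀ g ∈ T, g • a = a := fun g hg => (hTfix a).mpr (Finset.mem_insert_self _ _) g hg
  have hTb : ∀ g ∈ T, g • b = b := fun g hg => (hTfix b).mpr (Finset.mem_insert_of_mem hbD) g hg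
  have hTD : ∀ g ∈ T, ∀ x ∈ D, g • x = x := fun g hg x hx =>
    (hTfix x).mpr (Finset.mem_insert_of_mem hx) g hg
  by_cases hsub : D ⊆ B
  · have heq : D = B := Finset.eq_of_subset_of_card_le hsub (by rw [hDc, S.hBc])
    exact (line_count S.h2 S.hp S.hp2 S.hn S.hB S.hB S.hb S.hb S.hBc S.hBc hsb
      (heq ▸ hDins.symm)).2 rfl
  obtain ⟨c, hcD, hcB⟩ := Finset.not_subset.mp hsub
  have hca : c ≠ a := fun h => (Finset.mem_erase.mp (hDdef ▸ hcD)).1 h
  obtain ⟨E, hE, hcE⟩ := exists_block_mem S.h2 S.hB S.hb hca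
  have hEB : E ≠ B := fun h => hcB (h ▸ hcE)
  -- the action of `C` on the blocks
  let Bl := blocks G a B
  have hinv : ∀ g ∈ C, ∀ X ∈ Bl, g • X ∈ Bl := fun g hg X hX => smul_mem_blocks (hCa hg) hX
  obtain ⟨σ, hσ, hσB, hσp⟩ : ∃ σ ∈ P, σ • B = E ∧ σ ^ p • B = B := by
    obtain ⟨σ, hσ, rfl⟩ := S.mem_blocks_P hE
    refine ⟨σ, hσ, rfl, ?_⟩
    haveI : ((P ⊓ stabilizer G B).subgroupOf P).Normal := ⟨fun n hn g => by
      have : g * n * g⁻¹ = n := by
        apply Subtype.ext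
        push_cast
        rw [S.P_comm g.2 n.2, mul_inv_cancel_right]
      rwa [this]⟩
    have hidx : ((P ⊓ stabilizer G B).subgroupOf P).index = p := by
      have h1 := Subgroup.card_mul_index ((P ⊓ stabilizer G B).subgroupOf P)
      rw [Nat.card_congr (Subgroup.subgroupOfEquivOfLe (inf_le_left : P ⊓ stabilizer G B ≤ P)).toEquiv,
        S.P0_card, S.hPc, sq] at h1
      exact Nat.eq_of_mul_eq_mul_left S.hp.pos h1
    have h := Subgroup.pow_index_mem ((P ⊓ stabilizer G B).subgroupOf P) (⟨σ, hσ⟩ : P)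
    rw [hidx] at h
    exact (Subgroup.mem_subgroupOf.mp h).2
  have hper : ∀ i j : ℕ, σ ^ i • B = σ ^ j • B ↔ i % p = j % p := by
    have h1 : MulAction.period σ B = p := by
      rcases (Nat.dvd_prime S.hp).mp (MulAction.pow_smul_eq_iff_period_dvd.mp hσp) with h | h
      · exfalso
        apply hEB
        rw [← hσB]
        have := (MulAction.pow_smul_eq_iff_period_dvd (m := σ) (a := B) (n := 1)).mpr (by rw [h])
        rwa [pow_one] at this
      · exact h
    have hle : ∀ i j : ℕ, i ≤ j → (σ ^ i • B = σ ^ j • B ↔ i % p = j % p) := by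
      intro i j hij
      obtain ⟨k, rfl⟩ := Nat.exists_eq_add_of_le hij
      have e1 : (σ ^ i • B = σ ^ (i + k) • B) ↔ p ∣ k := by
        rw [pow_add, mul_smul, smul_left_cancel_iff]
        exact eq_comm.trans (h1 ▸ MulAction.pow_smul_eq_iff_period_dvd)
      have e2 := Nat.modEq_iff_dvd' (n := p) (Nat.le_add_right i k)
      rw [Nat.add_sub_cancel_left] at e2
      exact e1.trans e2.symm
    intro i j
    rcases le_total i j with h | h
    · exact hle i j h
    · rw [eq_comm, hle j i h, eq_comm]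
  have hcyc : ∀ X ∈ Bl, ∃ i : ℕ, σ ^ i • B = X := by
    intro X hX
    have hcard : ((Finset.range p).image fun i => σ ^ i • B).card = Bl.card := by
      rw [Finset.card_image_of_injOn, Finset.card_range, card_blocks S.h2 S.hp S.hn S.hB S.hb S.hBc]
      intro i hi j hj h
      have := (hper i j).mp h
      rwa [Nat.mod_eq_of_lt (Finset.mem_range.mp hi), Nat.mod_eq_of_lt (Finset.mem_range.mp hj)] at this
    have heq := Finset.eq_of_subset_of_card_le (s := (Finset.range p).image fun i => σ ^ i • B)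
      (t := Bl) (Finset.image_subset_iff.mpr fun i _ =>
        smul_mem_blocks (pow_mem (S.hP hσ) i) (self_mem_blocks a B)) hcard.ge
    obtain ⟨i, -, hi⟩ := Finset.mem_image.mp (heq ▸ hX)
    exact ⟨i, hi⟩
  let f := resHom C Bl hinv
  let σC : C := ⟨σ, hPC σ hσ⟩
  have hfpow : ∀ (i : ℕ) (X : Bl), (((f σC ^ i) X : Bl) : Finset Ω) = σ ^ i • (X : Finset Ω) := by
    intro i X
    rw [← map_pow]
    simp [f, σC]
  have hu' : ∀ X Y : Bl, ∃ i : ℕ, (f σC ^ i) X = Y := by
    intro X Y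
    obtain ⟨i, hi⟩ := hcyc X X.2
    obtain ⟨j, hj⟩ := hcyc Y Y.2
    refine ⟨j + (p - i % p), Subtype.ext ?_⟩
    rw [hfpow, ← hi, ← hj, ← mul_smul, ← pow_add, hper]
    have := Nat.mod_lt i S.hp.pos
    have e : j + (p - i % p) + i = j + p * (i / p + 1) := by
      have := Nat.mod_add_div i p
      rw [mul_add, mul_one]
      omega
    rw [e, Nat.add_mul_mod_self_left]
  have hTK : ∀ t ∈ T, t ∈ kernel G a B := by
    intro t ht
    have hta := hTa t ht
    refine mem_kernel.mpr ⟨hta, fun X hX => ?_⟩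
    have htB : t • B = B := S.mem_H_smul_B hta (hTb t ht)
    have htE : t • E = E := blocks_eq_of_mem (b := c) (B := E) (a := a)
      (by
        obtain ⟨g, hg, rfl⟩ := mem_blocks.mp hE
        exact ⟨notMem_of_mem_blocks S.hB hE, fun k hk x hx hkx y hy => by
          have h := S.hB.smul_eq_smul (mul_mem hk hg) hg
            (show k • x ∈ (k * g) • B by rw [mul_smul]; exact Finset.smul_mem_smul_finset hx) hkx
          rw [← h, mul_smul]
          exact Finset.smul_mem_smul_finset hy⟩)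
      (by
        obtain ⟨g, hg, rfl⟩ := mem_blocks.mp hE
        exact mem_blocks.mpr ⟨t, hta, rfl⟩)
      hcE (hTD t ht c hcD ▸ Finset.smul_mem_smul_finset hcE)
    rcases dichotomy (α := Bl) (p := p) (by rw [Fintype.card_coe, card_blocks S.h2 S.hp S.hn S.hB S.hb S.hBc])
      f σC hu' with htr | haff
    · by_cases hXB : X = B
      · rw [hXB, htB]
      obtain ⟨g, hg1, hg2⟩ := htr ⟨B, self_mem_blocks a B⟩ ⟨E, hE⟩ ⟨B, self_mem_blocks a B⟩ ⟨X, hX⟩
        (fun e => hEB (congrArg Subtype.val e).symm) (fun e => hXB (congrArg Subtype.val e).symm)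
      have hgB : (g : G) • B = B := congrArg Subtype.val hg1
      have hgE : (g : G) • E = X := congrArg Subtype.val hg2
      have hgb : (g : G) • b ∈ B := hgB ▸ Finset.smul_mem_smul_finset S.hb
      obtain ⟨v, hv, hvb⟩ := S.P0_trans hgb
      have hg' : v⁻¹ * g ∈ stabilizer G a ⊓ stabilizer G b := Subgroup.mem_inf.mpr
        ⟨mul_mem (inv_mem (S.hP hv.1)) (hCa g.2),
          MulAction.mem_stabilizer_iff.mpr (by rw [mul_smul, inv_smul_eq_iff, hvb])⟩
      have hmem : (v⁻¹ * g) • c ∈ D := hDinv _ hg' c hcD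
      have hvX : v⁻¹ • X = X := (mem_kernel.mp (S.P0_le_kernel (inv_mem hv))).2 X hX
      have hX' : (v⁻¹ * g) • c ∈ X := by
        have h := Finset.smul_mem_smul_finset (a := v⁻¹ * (g : G)) hcE
        rwa [mul_smul v⁻¹ (g : G) E, hgE, hvX] at h
      have htX : t • ((v⁻¹ * g) • c) ∈ t • X := Finset.smul_mem_smul_finset hX'
      rw [hTD t ht _ hmem] at htX
      obtain ⟨k, hk, rfl⟩ := mem_blocks.mp hX
      rw [← mul_smul]
      exact S.hB.smul_eq_smul (mul_mem hta hk) hk (by rw [mul_smul t k B]; exact htX) hX'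
    · obtain ⟨i, hi⟩ := hcyc X hX
      obtain ⟨l, hl⟩ := haff ⟨t * σ * t⁻¹, hCn t hta σ (hPC σ hσ)⟩ (by
        refine Equiv.ext fun Y => Subtype.ext ?_
        rw [← map_pow]
        simp only [f, resHom_apply, SubmonoidClass.coe_pow, Equiv.Perm.coe_one, id_eq]
        obtain ⟨j, hj⟩ := hcyc _ (smul_mem_blocks (inv_mem hta) Y.2)
        rw [conj_pow, mul_smul, mul_smul, ← hj, ← mul_smul (σ ^ p), ← pow_add,
          (hper (p + j) j).mpr (by rw [Nat.add_mod_left]), hj, smul_inv_smul])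
      have hconj : ∀ Y ∈ Bl, (t * σ * t⁻¹) • Y = σ ^ l • Y := fun Y hY => by
        have := congrArg (fun q : Equiv.Perm Bl => ((q ⟨Y, hY⟩ : Bl) : Finset Ω)) hl
        simpa [hfpow, f] using this
      have hpow : ∀ m : ℕ, t • (σ ^ m • B) = σ ^ (l * m) • B := by
        intro m
        induction m with
        | zero => simp [htB]
        | succ m ih =>
          have e : t • (σ ^ (m + 1) • B) = (t * σ * t⁻¹) • (t • σ ^ m • B) := by
            rw [pow_succ' σ m, mul_smul σ, mul_smul (t * σ), inv_smul_smul, mul_smul t σ]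
          rw [e, ih, hconj _ (smul_mem_blocks (pow_mem (S.hP hσ) _) (self_mem_blocks a B)),
            ← mul_smul, ← pow_add, Nat.mul_succ, Nat.add_comm]
      have hl1 : l % p = 1 % p := by
        have := hpow 1
        rw [pow_one, hσB, htE, mul_one, ← hσB] at this
        exact ((hper 1 l).mp (by rw [pow_one]; exact this)).symm
      rw [← hi, hpow, hper, Nat.mul_mod, hl1, ← Nat.mul_mod, one_mul]
  have hTC : ∀ t ∈ T, t ∈ C → t = 1 := fun t ht htC =>
    hCK t (hCbmem.mpr ⟨htC, hTb t ht⟩) (hTK t ht)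
  -- the fixed points of `T` form a second block
  obtain ⟨x, hx, hxc⟩ := S.P_trans hca
  have hxT : ∀ t ∈ T, t * x = x * t := by
    intro t ht
    have hta := hTa t ht
    have hw : t * x * t⁻¹ * x⁻¹ = 1 := by
      refine S.kernel_faithful (E := E) ?_ hE ?_
      · have h1 := kernel_conj (S.hP hx) (inv_mem (hTK t ht))
        have e : t * x * t⁻¹ * x⁻¹ = t * (x * t⁻¹ * x⁻¹) := by group
        rw [e]
        exact mul_mem (hTK t ht) h1
      · intro z hz
        have hwC : t * x * t⁻¹ * x⁻¹ ∈ C :=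
          mul_mem (hCn t hta x (hPC x hx)) (inv_mem (hPC x hx))
        have hwc : (t * x * t⁻¹ * x⁻¹) • c = c := by
          rw [mul_smul, mul_smul, mul_smul, inv_smul_eq_iff.mpr hxc.symm,
            inv_smul_eq_iff.mpr (hTb t ht).symm, hxc, hTD t ht c hcD]
        obtain ⟨q, hq, rfl⟩ := S.mem_blocks_P hE
        obtain ⟨y, hy, rfl⟩ := Finset.mem_smul_finset.mp hz
        obtain ⟨y', hy', hyc⟩ := Finset.mem_smul_finset.mp hcE
        obtain ⟨v, hv, hvb⟩ := S.P0_trans hy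
        obtain ⟨v', hv', hvb'⟩ := S.P0_trans hy'
        obtain ⟨i, hi⟩ := hgen _ (mul_mem hv (inv_mem hv'))
        have hzc : q • y = u ^ i • c := by
          rw [← hyc, ← hvb, ← hvb', ← hi, ← mul_smul (v * v'⁻¹), ← mul_smul, ← mul_smul]
          congr 1
          rw [mul_assoc _ q v', S.P_comm hq hv'.1, ← mul_assoc _ v' q, inv_mul_cancel_right,
            S.P_comm hq hv.1]
        rw [hzc, ← mul_smul, (Commute.pow_right (hCmem.mp hwC).2 i).eq, mul_smul, hwc]
    exact mul_inv_eq_one.mp (by rw [mul_inv_rev, ← mul_assoc]; exact hw)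
  obtain ⟨M, hMdef⟩ : ∃ M : Subgroup G, M = stabilizer G a ⊓ Subgroup.normalizer (T : Set G) :=
    ⟨_, rfl⟩
  have hMfix : ∀ m ∈ M, m • b ∈ D := by
    intro m hm
    rw [hMdef, Subgroup.mem_inf] at hm
    have h : m • b ∈ insert a D := by
      rw [← hTfix]
      intro g hg
      have hg' : m⁻¹ * g * m ∈ T := by
        have := (Subgroup.mem_normalizer_iff.mp (inv_mem hm.2) g).mp hg
        rwa [inv_inv] at this
      have := hTb _ hg'
      rwa [mul_smul, mul_smul, inv_smul_eq_iff] at this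
    exact (Finset.mem_insert.mp h).resolve_left (S.ne_a_of_smul hm.1 S.b_ne_a)
  have hxM : x ∈ M := by
    rw [hMdef, Subgroup.mem_inf]
    refine ⟨S.hP hx, Subgroup.mem_normalizer_iff.mpr fun g => ⟨fun hg => ?_, fun hg => ?_⟩⟩
    · have e : x * g * x⁻¹ = g := by rw [← hxT g hg, mul_inv_cancel_right]
      exact e.symm ▸ hg
    · have e : x * g * x⁻¹ = g := by
        have := hxT _ hg
        rw [inv_mul_cancel_right] at this
        exact (mul_left_cancel this).symm
      rwa [e] at hg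
  have hHM : ∀ h, h • a = a → h • b = b → h ∈ M := by
    intro h hha hhb
    rw [hMdef, Subgroup.mem_inf]
    have key : ∀ k : G, k • a = a → k • b = b → ∀ g ∈ T, k * g * k⁻¹ ∈ T := by
      intro k hka hkb g hg
      have h1a : (s⁻¹ * k * s) • a = a := by
        rw [mul_smul, mul_smul, hsa, hkb, inv_smul_eq_iff, hsa]
      have h1b : (s⁻¹ * k * s) • b = b := by
        rw [mul_smul, mul_smul, hsb, hka, inv_smul_eq_iff, hsb]
      obtain ⟨h3, h4⟩ := hCbmem.mp (hTmem.mp hg)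
      refine hTmem.mpr ?_
      have e : s⁻¹ * (k * g * k⁻¹) * s =
          (s⁻¹ * k * s) * (s⁻¹ * g * s) * (s⁻¹ * k * s)⁻¹ := by group
      rw [e]
      refine hCbmem.mpr ⟨hCn _ h1a _ h3, ?_⟩
      rw [mul_smul, mul_smul, inv_smul_eq_iff.mpr h1b.symm, h4, h1b]
    refine ⟨hha, Subgroup.mem_normalizer_iff.mpr fun g => ⟨key h hha hhb g, fun hg => ?_⟩⟩
    have := key h⁻¹ (by rw [inv_smul_eq_iff, hha]) (by rw [inv_smul_eq_iff, hhb]) _ hg
    simpa [mul_assoc] using this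
  obtain ⟨O, hOdef⟩ : ∃ O : Finset Ω, O = Finset.univ.filter fun y => ∃ m ∈ M, m • b = y :=
    ⟨_, rfl⟩
  have hOmem : ∀ {y : Ω}, y ∈ O ↔ ∃ m ∈ M, m • b = y := fun {y} => by simp [hOdef]
  have hO : ABlock G a O := by
    refine ⟨fun h => ?_, fun g hg y hy hgy z hz => ?_⟩
    · obtain ⟨m, hm, e⟩ := hOmem.mp h
      exact S.ne_a_of_smul ((hMdef ▸ hm : m ∈ stabilizer G a ⊓ _).1) S.b_ne_a e
    · obtain ⟨m, hm, rfl⟩ := hOmem.mp hy
      obtain ⟨m', hm', e⟩ := hOmem.mp hgy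
      obtain ⟨n, hn, rfl⟩ := hOmem.mp hz
      have hMa : ∀ k ∈ M, k • a = a := fun k hk => (hMdef ▸ hk : k ∈ stabilizer G a ⊓ _).1
      have hk : m'⁻¹ * g * m ∈ M := by
        refine hHM _ ?_ ?_
        · rw [mul_smul, mul_smul, hMa m hm, MulAction.mem_stabilizer_iff.mp hg, inv_smul_eq_iff,
            hMa m' hm']
        · rw [mul_smul, mul_smul, inv_smul_eq_iff, e]
      have hgM : g ∈ M := by
        have := mul_mem (mul_mem hm' hk) (inv_mem hm)
        simpa [mul_assoc] using this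
      exact hOmem.mpr ⟨g * n, mul_mem hgM hn, mul_smul _ _ _⟩
  have hbO : b ∈ O := hOmem.mpr ⟨1, one_mem _, one_smul _ _⟩
  have hOD : O ⊆ D := fun y hy => by
    obtain ⟨m, hm, rfl⟩ := hOmem.mp hy
    exact hMfix m hm
  have hOeq : O = D := by
    refine Finset.eq_of_subset_of_card_le hOD ?_
    have h1 : 1 < O.card := Finset.one_lt_card.mpr ⟨b, hbO, c, hOmem.mpr ⟨x, hxM, hxc⟩,
      fun e => hcB (e ▸ S.hb)⟩
    have h2 := Finset.card_le_card hOD
    rcases hO.card_cases S.h2 S.hp S.hn hbO with h | h | h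
    · omega
    · rw [h, hDc]
    · have : p * 2 ≤ p ^ 2 := by rw [sq]; exact Nat.mul_le_mul_left p S.hp.two_le
      have := S.hp.pos
      omega
  have hD : ABlock G a D := hOeq ▸ hO
  obtain ⟨hp3, hDB⟩ := line_count S.h2 S.hp S.hp2 S.hn S.hB hD S.hb hbD S.hBc hDc hsb hDins.symm
  obtain ⟨t, ht, ht1⟩ : ∃ t ∈ T, t ≠ 1 := ⟨s * c₀ * s⁻¹, hTmem.mpr (by simpa [mul_assoc] using hc₀),
    fun e => hc₀1 (by simpa [mul_assoc] using congrArg (fun z => s⁻¹ * z * s) e)⟩
  refine S.no_three hp3 hD hbD hDc hDB (hTK t ht) ht1 ?_ (hTD t ht)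
  apply hTC _ (pow_mem ht 2)
  refine hCmem.mpr ⟨by rw [sq, mul_smul, hTa t ht, hTa t ht], ?_⟩
  obtain ⟨r, hr⟩ := hgen _ (hP0 t (hTa t ht) u hu)
  have hu1 : u ≠ 1 := by
    intro h
    obtain ⟨y, hy, hyb⟩ := Finset.exists_mem_ne (show 1 < B.card by rw [S.hBc]; exact S.hp.one_lt) b
    obtain ⟨v, hv, hvb⟩ := S.P0_trans hy
    obtain ⟨i, rfl⟩ := hgen v hv
    exact hyb (by rw [← hvb, h, one_pow, one_smul])
  have hr0 : r % p ≠ 0 := by
    intro h
    rw [pow_eq_pow_mod r hup, h, pow_zero, mul_inv_eq_one] at hr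
    exact hu1 (mul_eq_left.mp hr)
  have hrr : r * r % p = 1 % p := by
    have hlt := Nat.mod_lt r S.hp.pos
    rw [Nat.mul_mod, hp3] at *
    rcases (by omega : r % 3 = 1 ∨ r % 3 = 2) with h | h <;> rw [h]
  have key : t ^ 2 * u * (t ^ 2)⁻¹ = u := by
    calc t ^ 2 * u * (t ^ 2)⁻¹ = t * (t * u * t⁻¹) * t⁻¹ := by simp [sq, mul_assoc]
      _ = t * u ^ r * t⁻¹ := by rw [hr]
      _ = (t * u * t⁻¹) ^ r := by rw [conj_pow]
      _ = u ^ (r * r % p) := by rw [hr, ← pow_mul, ← pow_eq_pow_mod _ hup]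
      _ = u := by rw [hrr, ← pow_eq_pow_mod _ hup, pow_one]
  exact mul_inv_eq_iff_eq_mul.mp key

end Setup

end CfsgLib.Perm.SqOne
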