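import Mathlib.RingTheory.Polynomial.Cyclotomic.Basic
import Mathlib.RingTheory.Polynomial.Cyclotomic.Roots
import Mathlib.Analysis.Complex.Basic
import Mathlib.RingTheory.RootsOfUnity.Complex
import Mathlib.Algebra.CharP.Lemmas
import Mathlib.Algebra.CharP.Algebra
import Mathlib.Algebra.MonoidAlgebra.Basic
import Mathlib.Data.Rat.Lemmas
import Mathlib.Algebra.Field.ZMod

/-!
A difference set `S` in `ZMod p` whose `p`-fold convolution power is constant off one residue is a
singleton or the complement of one.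
-/

set_option autoImplicit false

namespace CfsgLib.Perm.SqOne

open Finset

variable {p : ℕ} [Fact p.Prime]

/-- Evaluation of convolution powers at a character. -/
theorem sum_conv_eq {R : Type*} [CommRing R] (φ : ZMod p → R) (h0 : φ 0 = 1)
    (hadd : ∀ i j, φ (i + j) = φ i * φ j) (S : Finset (ZMod p)) (F : ℕ → ZMod p → ℕ)
    (hF0 : ∀ j, F 0 j = if j = 0 then 1 else 0)
    (hFs : ∀ m j, F (m + 1) j = ∑ i ∈ S, F m (j - i)) (m : ℕ) :
    ∑ j, (F m j : R) * φ j = (∑ i ∈ S, φ i) ^ m := by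
  induction m with
  | zero => simp [hF0, h0]
  | succ m ih =>
    rw [pow_succ, ← ih, Finset.sum_mul_sum]
    simp only [hFs, Nat.cast_sum, Finset.sum_mul]
    rw [Finset.sum_comm]
    conv_rhs => rw [Finset.sum_comm]
    refine Finset.sum_congr rfl fun i _ => ?_
    refine Fintype.sum_equiv (Equiv.subRight i) _ _ fun j => ?_
    rw [Equiv.subRight_apply, mul_assoc, ← hadd, sub_add_cancel]

/-- Modulo `p` the `p`-fold convolution power is concentrated at zero. -/
theorem conv_mod (S : Finset (ZMod p)) (F : ℕ → ZMod p → ℕ)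
    (hF0 : ∀ j, F 0 j = if j = 0 then 1 else 0)
    (hFs : ∀ m j, F (m + 1) j = ∑ i ∈ S, F m (j - i)) (j : ZMod p) :
    ((F p j : ℕ) : ZMod p) = if j = 0 then (S.card : ZMod p) else 0 := by
  classical
  haveI : CharP (AddMonoidAlgebra (ZMod p) (ZMod p)) p := by
    refine charP_of_injective_algebraMap (R := ZMod p) ?_ p
    intro x y h
    simp only [AddMonoidAlgebra.coe_algebraMap, Algebra.algebraMap_self, RingHom.id_apply,
      Function.comp_apply] at h
    simpa using congrArg (fun f : AddMonoidAlgebra (ZMod p) (ZMod p) => f.coeff 0) h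
  let φ : ZMod p → AddMonoidAlgebra (ZMod p) (ZMod p) := fun i => AddMonoidAlgebra.single i 1
  have h := sum_conv_eq φ rfl (fun i j => by simp [φ, AddMonoidAlgebra.single_mul_single]) S F hF0
    hFs p
  have h1 : (∑ i ∈ S, φ i) ^ p = ∑ _i ∈ S, AddMonoidAlgebra.single (0 : ZMod p) (1 : ZMod p) := by
    rw [sum_pow_char]
    refine Finset.sum_congr rfl fun i _ => ?_
    simp [φ, AddMonoidAlgebra.single_pow]
  have h2 : ∀ i, ((F p i : ℕ) : AddMonoidAlgebra (ZMod p) (ZMod p)) * φ i = AddMonoidAlgebra.single i ((F p i : ℕ) : ZMod p) := by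
    intro i
    simp [φ, AddMonoidAlgebra.natCast_def, AddMonoidAlgebra.single_mul_single]
  rw [h1, Finset.sum_congr rfl fun i _ => h2 i] at h
  have h3 := congrArg (fun f : AddMonoidAlgebra (ZMod p) (ZMod p) => f.coeff j) h
  simp only [AddMonoidAlgebra.coeff_sum, AddMonoidAlgebra.coeff_single, Finsupp.finsetSum_apply,
    Finsupp.single_apply, Finset.sum_ite_eq', Finset.mem_univ, if_true, Finset.sum_const] at h3
  rw [h3]
  by_cases hj : j = 0
  · simp [hj]
  · simp [hj, Ne.symm hj]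

/-- The number theoretic core: such a set has at most one or at least `p - 1` elements. -/
theorem no_difference_set (hp2 : p ≠ 2) (S : Finset (ZMod p)) (hS2 : 2 ≤ S.card)
    (hSp : S.card + 2 ≤ p)
    (hdiff : ∀ d d' : ZMod p, d ≠ 0 → d' ≠ 0 →
      (S.filter fun i => i + d ∈ S).card = (S.filter fun i => i + d' ∈ S).card)
    (F : ℕ → ZMod p → ℕ) (hF0 : ∀ j, F 0 j = if j = 0 then 1 else 0)
    (hFs : ∀ m j, F (m + 1) j = ∑ i ∈ S, F m (j - i))
    (e : ZMod p) (hconst : ∀ i j, i ≠ e → j ≠ e → F p i = F p j) : False := by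
  classical
  have hp : p.Prime := Fact.out
  have hk0 : (S.card : ZMod p) ≠ 0 := by
    rw [Ne, ZMod.natCast_eq_zero_iff]
    intro h
    have := Nat.le_of_dvd (by omega) h
    omega
  have he : e = 0 := by
    by_contra he
    obtain ⟨j, hj⟩ : ∃ j, j ∈ (Finset.univ : Finset (ZMod p)) \ {0, e} := by
      refine Finset.card_pos.mp ?_
      have := Finset.le_card_sdiff ({0, e} : Finset (ZMod p)) Finset.univ
      have h2 : ({0, e} : Finset (ZMod p)).card ≤ 2 := Finset.card_le_two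
      rw [Finset.card_univ, ZMod.card] at this
      omega
    simp only [Finset.mem_sdiff, Finset.mem_univ, true_and, Finset.mem_insert,
      Finset.mem_singleton, not_or] at hj
    have h := congrArg (fun n : ℕ => (n : ZMod p)) (hconst j 0 hj.2 (Ne.symm he))
    simp only [conv_mod S F hF0 hFs, if_neg hj.1, if_true] at h
    exact hk0 h.symm
  subst he
  obtain ⟨ζ, hζ⟩ : ∃ ζ : ℂ, IsPrimitiveRoot ζ p :=
    ⟨_, Complex.isPrimitiveRoot_exp p hp.ne_zero⟩
  let φ : ZMod p → ℂ := fun i => ζ ^ i.val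
  have hφ0 : φ 0 = 1 := by simp [φ]
  have hφadd : ∀ i j, φ (i + j) = φ i * φ j := by
    intro i j
    simp only [φ, ← pow_add, ZMod.val_add]
    exact (pow_eq_pow_mod _ hζ.pow_eq_one).symm
  have hsum : ∑ i, φ i = 0 := by
    rw [← hζ.geom_sum_eq_zero hp.one_lt]
    refine Finset.sum_bij (fun i _ => i.val) ?_ ?_ ?_ ?_
    · exact fun i _ => Finset.mem_range.mpr (ZMod.val_lt i)
    · exact fun i _ j _ h => ZMod.val_injective p h
    · exact fun b hb => ⟨(b : ZMod p), Finset.mem_univ _,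
        ZMod.val_cast_of_lt (Finset.mem_range.mp hb)⟩
    · exact fun i _ => rfl
  obtain ⟨x, hxdef⟩ : ∃ x : ℤ, x = (F p 0 : ℤ) - (F p 1 : ℤ) := ⟨_, rfl⟩
  have hpow : ∀ ψ : ZMod p → ℂ, ψ 0 = 1 → (∀ i j, ψ (i + j) = ψ i * ψ j) → ∑ i, ψ i = 0 →
      (∑ i ∈ S, ψ i) ^ p = (x : ℂ) := by
    intro ψ h0 hadd hψ
    rw [← sum_conv_eq ψ h0 hadd S F hF0 hFs p]
    have h1 : ∀ j, (F p j : ℂ) * ψ j = (F p 1 : ℂ) * ψ j + (if j = 0 then (x : ℂ) else 0) := by
      intro j
      by_cases hj : j = 0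
      · rw [if_pos hj, hj, h0, hxdef]; push_cast; ring
      · rw [if_neg hj, add_zero, hconst j 1 hj one_ne_zero]
    rw [Finset.sum_congr rfl fun j _ => h1 j, Finset.sum_add_distrib, ← Finset.mul_sum, hψ,
      mul_zero, zero_add, Finset.sum_ite_eq', if_pos (Finset.mem_univ _)]
  let N : ZMod p → ℕ := fun d => (S.filter fun i => i + d ∈ S).card
  have hN0 : N 0 = S.card := by
    simp [N]
  have hNsum : ∑ d, N d = S.card * S.card := by
    simp only [N, Finset.card_filter]
    rw [Finset.sum_comm, ← smul_eq_mul, ← Finset.sum_const]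
    refine Finset.sum_congr rfl fun i _ => ?_
    rw [← Finset.card_filter]
    exact Finset.card_bij (fun d _ => i + d) (fun d hd => (Finset.mem_filter.mp hd).2)
      (fun a _ b _ h => add_left_cancel h)
      (fun b hb => ⟨b - i, by simp [hb], add_sub_cancel i b⟩)
  have hNd : ∀ d, d ≠ 0 → N d = N 1 := fun d hd => hdiff d 1 hd one_ne_zero
  have hl : S.card + (p - 1) * N 1 = S.card * S.card := by
    rw [← hNsum, ← Finset.add_sum_erase _ _ (Finset.mem_univ (0 : ZMod p)), hN0,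
      Finset.sum_congr rfl fun d hd => hNd d (Finset.ne_of_mem_erase hd), Finset.sum_const,
      Finset.card_erase_of_mem (Finset.mem_univ _), Finset.card_univ, ZMod.card, smul_eq_mul]
  have hlt : N 1 < S.card := by
    by_contra h
    have h' : (p - 1) * S.card ≤ (p - 1) * N 1 := Nat.mul_le_mul_left _ (not_lt.mp h)
    have hp1 : p - 1 + 1 = p := by omega
    nlinarith
  have hprod : (∑ i ∈ S, φ i) * (∑ i ∈ S, φ (-i)) = ((S.card - N 1 : ℕ) : ℂ) := by
    rw [Finset.sum_mul_sum, Finset.sum_comm]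
    have h1 : ∀ j ∈ S, ∑ i ∈ S, φ i * φ (-j) =
        ∑ d : ZMod p, if j + d ∈ S then φ d else 0 := by
      intro j _
      rw [← Finset.sum_filter]
      refine Finset.sum_bij (fun i _ => i - j) (fun i hi => by simp [hi])
        (fun a _ b _ h => sub_left_injective h)
        (fun d hd => ⟨j + d, (Finset.mem_filter.mp hd).2, add_sub_cancel_left j d⟩)
        (fun i _ => by rw [← hφadd, sub_eq_add_neg])
    rw [Finset.sum_congr rfl h1, Finset.sum_comm]
    have h2 : ∀ d : ZMod p, (∑ j ∈ S, if j + d ∈ S then φ d else 0) = (N d : ℂ) * φ d := by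
      intro d
      rw [← Finset.sum_filter, Finset.sum_const, nsmul_eq_mul]
    rw [Finset.sum_congr rfl fun d _ => h2 d]
    have h3 : ∀ d, (N d : ℂ) * φ d =
        (N 1 : ℂ) * φ d + (if d = 0 then ((S.card - N 1 : ℕ) : ℂ) else 0) := by
      intro d
      by_cases hd : d = 0
      · rw [if_pos hd, hd, hφ0, hN0, Nat.cast_sub hlt.le]; ring
      · rw [if_neg hd, add_zero, hNd d hd]
    rw [Finset.sum_congr rfl fun d _ => h3 d, Finset.sum_add_distrib, ← Finset.mul_sum, hsum,
      mul_zero, zero_add, Finset.sum_ite_eq', if_pos (Finset.mem_univ _)]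
  obtain ⟨n, hn⟩ : ∃ n : ℕ, n = S.card - N 1 := ⟨_, rfl⟩
  have hn0 : n ≠ 0 := by omega
  rw [← hn] at hprod
  have hsx := hpow φ hφ0 hφadd hsum
  have hsx' := hpow (fun i => φ (-i)) (by simp [hφ0]) (fun i j => by rw [neg_add, hφadd])
    (by rw [← hsum]; exact Fintype.sum_equiv (Equiv.neg _) _ _ (fun i => rfl))
  have hnx : (n : ℤ) ^ p = x * x := by
    have h := congrArg (· ^ p) hprod
    simp only [mul_pow, hsx, hsx'] at h
    exact_mod_cast h.symm
  obtain ⟨r, hr⟩ := hp.odd_of_ne_two hp2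
  obtain ⟨q, hq⟩ : IsSquare n := by
    rw [← Rat.isSquare_natCast_iff]
    refine ⟨(x : ℚ) / (n : ℚ) ^ r, ?_⟩
    have hnq : (n : ℚ) ≠ 0 := by exact_mod_cast hn0
    have h : (n : ℚ) ^ (2 * r + 1) = (x : ℚ) * (x : ℚ) := by rw [← hr]; exact_mod_cast hnx
    rw [div_mul_div_comm, ← h, eq_div_iff (by positivity)]
    ring
  have hxq : x = (q : ℤ) ^ p ∨ x = -((q : ℤ) ^ p) := by
    apply mul_self_eq_mul_self_iff.mp
    rw [← hnx, hq, ← mul_pow, Nat.cast_mul]
  obtain ⟨c, hc0, hc⟩ : ∃ c : ℤ, c ≠ 0 ∧ c ^ p = x := by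
    have hq0 : (q : ℤ) ≠ 0 := by
      rintro h
      exact hn0 (by rw [hq, Nat.cast_eq_zero.mp h])
    rcases hxq with h | h
    · exact ⟨q, hq0, h.symm⟩
    · exact ⟨-q, neg_ne_zero.mpr hq0, by rw [h, neg_pow, (hp.odd_of_ne_two hp2).neg_one_pow]; ring⟩
  obtain ⟨i, hi, hiw⟩ : ∃ i < p, ζ ^ i = (∑ j ∈ S, φ j) / (c : ℂ) := by
    haveI : NeZero p := ⟨hp.ne_zero⟩
    refine hζ.eq_pow_of_pow_eq_one ?_
    rw [div_pow, hsx, ← hc, Int.cast_pow, div_self (pow_ne_zero _ (Int.cast_ne_zero.mpr hc0))]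
  have hlin : ∑ j ∈ S, φ j - (c : ℂ) * ζ ^ i = 0 := by
    rw [hiw, mul_div_cancel₀ _ (Int.cast_ne_zero.mpr hc0), sub_self]
  open Polynomial in
  let P : ℚ[X] := ∑ j ∈ S, X ^ j.val - C (c : ℚ) * X ^ i
  have hP : Polynomial.aeval ζ P = 0 := by
    simp only [P, map_sub, map_sum, map_mul, map_pow, Polynomial.aeval_X, Polynomial.aeval_C,
      map_intCast]
    exact hlin
  have hdvd : Polynomial.cyclotomic p ℚ ∣ P := by
    rw [Polynomial.cyclotomic_eq_minpoly_rat hζ hp.pos]
    exact minpoly.dvd ℚ ζ hP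
  obtain ⟨Q, hQ⟩ := hdvd
  have hdeg : P.natDegree ≤ p - 1 := by
    refine (Polynomial.natDegree_sub_le _ _).trans (max_le ?_ ?_)
    · exact Polynomial.natDegree_sum_le_of_forall_le _ _ fun j _ =>
        (Polynomial.natDegree_X_pow _).le.trans (by have := ZMod.val_lt j; omega)
    · exact (Polynomial.natDegree_C_mul_X_pow_le _ _).trans (by omega)
  have hQ0 : Q.natDegree = 0 := by
    by_cases hQz : Q = 0
    · simp [hQz]
    rw [hQ, Polynomial.natDegree_mul (Polynomial.cyclotomic_ne_zero p ℚ) hQz,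
      Polynomial.natDegree_cyclotomic, Nat.totient_prime hp] at hdeg
    omega
  have hcoeff : ∀ j : ZMod p, P.coeff j.val = Q.coeff 0 := by
    intro j
    rw [hQ, Polynomial.eq_C_of_natDegree_eq_zero hQ0, Polynomial.coeff_mul_C,
      Polynomial.cyclotomic_prime, Polynomial.finsetSum_coeff, Polynomial.coeff_C_zero]
    simp [Polynomial.coeff_X_pow, ZMod.val_lt j]
  have hval : ∀ j : ZMod p, j ≠ (i : ZMod p) → P.coeff j.val = if j ∈ S then 1 else 0 := by
    intro j hj
    have hji : j.val ≠ i := fun h => hj (by rw [← h, ZMod.natCast_zmod_val])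
    simp [P, Polynomial.coeff_X_pow, Polynomial.finsetSum_coeff, hji,
      (ZMod.val_injective p).eq_iff, Finset.sum_ite_eq]
  obtain ⟨j₁, hj₁, hj₁i⟩ := Finset.exists_mem_ne (show 1 < S.card by omega) (i : ZMod p)
  obtain ⟨j₀, hj₀, hj₀i⟩ := Finset.exists_mem_ne (show 1 < Sᶜ.card by
    rw [Finset.card_compl, ZMod.card]; omega) (i : ZMod p)
  have h := (hcoeff j₁).trans (hcoeff j₀).symm
  rw [hval j₁ hj₁i, hval j₀ hj₀i, if_pos hj₁, if_neg (Finset.mem_compl.mp hj₀)] at h
  exact one_ne_zero h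

end CfsgLib.Perm.SqOne
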