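import Cfsg.Agent.Lib.Perm.SquarePlusOne.Setup
import Cfsg.Agent.Lib.Perm.SquarePlusOne.Circulant

/-!
The case of a kernel acting doubly transitively on each block.
-/

set_option autoImplicit false

namespace CfsgLib.Perm.SqOne

open MulAction Finset
open scoped Pointwise

variable {G Ω : Type*} [Group G] [Finite G] [MulAction G Ω] [Fintype Ω] [DecidableEq Ω]

namespace Setup

variable {p : ℕ} {a b : Ω} {B : Finset Ω} {P : Subgroup G} (S : Setup G p a b B P)
include S

/-- An element of `P` moving `B`, with its `p`-th power fixing `B`. -/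
theorem exists_move : ∃ σ ∈ P, σ • B ≠ B ∧ σ ^ p ∈ P ⊓ stabilizer G B := by
  obtain ⟨σ, hσ, hσB⟩ : ∃ σ ∈ P, σ • B ≠ B := by
    by_contra h
    simp only [not_exists, not_and, not_not] at h
    have h' : P ⊓ stabilizer G B = P :=
      inf_eq_left.mpr fun v hv => MulAction.mem_stabilizer_iff.mpr (h v hv)
    have hc := S.P0_card
    rw [h', S.hPc] at hc
    nlinarith [S.hp.two_le]
  refine ⟨σ, hσ, hσB, pow_mem hσ p, ?_⟩
  haveI : ((P ⊓ stabilizer G B).subgroupOf P).Normal := ⟨fun n hn g => by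
    have : g * n * g⁻¹ = n := by
      apply Subtype.ext
      push_cast
      rw [S.P_comm g.2 n.2, mul_inv_cancel_right]
    rwa [this]⟩
  have hidx : ((P ⊓ stabilizer G B).subgroupOf P).index = p := by
    have h1 := Subgroup.card_mul_index ((P ⊓ stabilizer G B).subgroupOf P)
    rw [Nat.card_congr (Subgroup.subgroupOfEquivOfLe (inf_le_left : P ⊓ stabilizer G B ≤ P)).toEquiv,
      S.P0_card, S.hPc, sq] at h1
    exact Nat.eq_of_mul_eq_mul_left S.hp.pos h1
  have h := Subgroup.pow_index_mem ((P ⊓ stabilizer G B).subgroupOf P) (⟨σ, hσ⟩ : P)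
  rw [hidx] at h
  exact (Subgroup.mem_subgroupOf.mp h).2

/-- The point stabilizer in the kernel fixes a point of every translate `σ • B`. -/
theorem exists_fixed_in_translate
    (hT : ∀ x ∈ B, ∀ y ∈ B, x ≠ b → y ≠ b → ∃ t ∈ kernel G a B ⊓ stabilizer G b, t • x = y)
    {σ : G} (hσ : σ ∈ P) (hσp : σ ^ p ∈ P ⊓ stabilizer G B) :
    ∃ x ∈ σ • B, ∀ t ∈ kernel G a B ⊓ stabilizer G b, t • x = x := by
  classical
  haveI := S.fact
  have hp := S.hp
  by_contra hno
  simp only [not_exists, not_and, not_forall] at hno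
  let T : Subgroup G := kernel G a B ⊓ stabilizer G b
  obtain ⟨u, hu, hup, hgen⟩ := S.exists_gen
  let c : ZMod p → G := fun l => u ^ l.val
  have hcP : ∀ l, c l ∈ P ⊓ stabilizer G B := fun l => pow_mem hu _
  have hcadd : ∀ i j, c (i + j) = c i * c j := fun i j => by
    simp only [c, ← pow_add, ZMod.val_add]
    exact (pow_eq_pow_mod _ hup).symm
  have hcnat : ∀ n : ℕ, c (n : ZMod p) = u ^ n := fun n => by
    simp only [c, ZMod.val_natCast]
    exact (pow_eq_pow_mod _ hup).symm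
  have hcsurj : ∀ x ∈ B, ∃ l, c l • b = x := by
    intro x hx
    obtain ⟨v, hv, hvb⟩ := S.P0_trans hx
    obtain ⟨i, rfl⟩ := hgen v hv
    exact ⟨i, by rw [hcnat, hvb]⟩
  have hcinj : Function.Injective fun l : ZMod p => c l • b := by
    let f : ZMod p → B := fun l => ⟨c l • b, by
      have h := Finset.smul_mem_smul_finset (a := c l) S.hb
      rwa [MulAction.mem_stabilizer_iff.mp (hcP l).2] at h⟩
    have hs : Function.Surjective f := fun x => by
      obtain ⟨l, hl⟩ := hcsurj x x.2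
      exact ⟨l, Subtype.ext hl⟩
    have hb' := hs.bijective_of_nat_card_le (by
      rw [Nat.card_zmod, Nat.card_eq_fintype_card, Fintype.card_coe, S.hBc])
    exact fun i j h => hb'.1 (Subtype.ext h)
  let pt : ℕ → ZMod p → Ω := fun m l => σ ^ m • c l • b
  have hptinj : ∀ m, Function.Injective (pt m) := fun m i j h => hcinj (smul_left_cancel (σ ^ m) h)
  have hblock : ∀ m : ℕ, σ ^ m • B ∈ blocks G a B := fun m =>
    mem_blocks.mpr ⟨σ ^ m, S.hP (pow_mem hσ m), rfl⟩
  have hmove : ∀ t ∈ T, ∀ m l, ∃ l', t • pt m l = pt m l' := by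
    intro t ht m l
    have h1 : t • pt m l ∈ σ ^ m • B := by
      rw [← (mem_kernel.mp ht.1).2 _ (hblock m)]
      refine Finset.smul_mem_smul_finset (Finset.smul_mem_smul_finset ?_)
      have h := Finset.smul_mem_smul_finset (a := c l) S.hb
      rwa [MulAction.mem_stabilizer_iff.mp (hcP l).2] at h
    obtain ⟨x, hx, hxe⟩ := Finset.mem_smul_finset.mp h1
    obtain ⟨l', rfl⟩ := hcsurj x hx
    exact ⟨l', hxe.symm⟩
  let O : Finset Ω := Finset.univ.filter fun y => ∃ t ∈ T, t • (σ • b) = y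
  have hOmem : ∀ {y}, y ∈ O ↔ ∃ t ∈ T, t • (σ • b) = y := fun {y} => by simp [O]
  have hOinv : ∀ t ∈ T, ∀ y, t • y ∈ O ↔ y ∈ O := by
    intro t ht y
    simp only [hOmem]
    constructor
    · rintro ⟨s, hs, h⟩
      exact ⟨t⁻¹ * s, mul_mem (inv_mem ht) hs, by rw [mul_smul, h, inv_smul_smul]⟩
    · rintro ⟨s, hs, rfl⟩
      exact ⟨t * s, mul_mem ht hs, mul_smul _ _ _⟩
  -- equivariance
  have hkey : ∀ t ∈ T, ∀ v ∈ P, ∀ w ∈ P, t • v • b = w • b → ∀ z,
      v⁻¹ • z ∈ O ↔ w⁻¹ • t • z ∈ O := by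
    intro t ht v hv w hw h z
    have h0 : (w⁻¹ * t * v) • b = b := by rw [mul_smul, mul_smul, h, inv_smul_smul]
    have hwv : w⁻¹ * v ∈ kernel G a B := by
      apply S.P0_le_kernel
      refine Subgroup.mem_inf.mpr ⟨mul_mem (inv_mem hw) hv, MulAction.mem_stabilizer_iff.mpr ?_⟩
      refine S.hB.smul_eq (S.hP (mul_mem (inv_mem hw) hv)) S.hb ?_
      have h3 : (w⁻¹ * t⁻¹ * w) ∈ kernel G a B := by
        have := kernel_conj (inv_mem (S.hP hw)) (inv_mem ht.1)
        rwa [inv_inv] at this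
      have h4 : (w⁻¹ * v) • b = (w⁻¹ * t⁻¹ * w) • b := by
        rw [mul_smul, mul_smul, mul_smul, ← h, inv_smul_smul]
      rw [h4]
      have h5 := (mem_kernel.mp h3).2 B (self_mem_blocks a B)
      exact h5 ▸ Finset.smul_mem_smul_finset S.hb
    have hmem : w⁻¹ * t * v ∈ T := by
      refine Subgroup.mem_inf.mpr ⟨?_, MulAction.mem_stabilizer_iff.mpr h0⟩
      have e : w⁻¹ * t * v = (w⁻¹ * t * w⁻¹⁻¹) * (w⁻¹ * v) := by group
      rw [e]
      exact mul_mem (kernel_conj (inv_mem (S.hP hw)) ht.1) hwv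
    have e : w⁻¹ • t • z = (w⁻¹ * t * v) • (v⁻¹ • z) := by
      rw [mul_smul, mul_smul, smul_inv_smul]
    rw [e, hOinv _ hmem]
  let J : Finset (ZMod p) := Finset.univ.filter fun j => pt 1 j ∈ O
  have hrel : ∀ m l j, (σ ^ m * c l)⁻¹ • pt (m + 1) j ∈ O ↔ j - l ∈ J := by
    intro m l j
    have e : (σ ^ m * c l)⁻¹ • pt (m + 1) j = pt 1 (j - l) := by
      rw [inv_smul_eq_iff]
      show σ ^ (m + 1) • c j • b = (σ ^ m * c l) • σ ^ 1 • c (j - l) • b
      simp only [← mul_smul]
      congr 1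
      have hj : c j = c l * c (j - l) := by rw [← hcadd, add_sub_cancel]
      have hcom : c l * σ = σ * c l := S.P_comm (hcP l).1 hσ
      rw [hj, pow_succ, pow_one, mul_assoc (σ ^ m) σ, mul_assoc (σ ^ m) (c l), ← mul_assoc (c l) σ,
        hcom, mul_assoc]
    rw [e]
    simp [J]
  have hOsub : O ⊆ σ • B := by
    intro y hy
    obtain ⟨t, ht, rfl⟩ := hOmem.mp hy
    have := (mem_kernel.mp ht.1).2 _ (hblock 1)
    rw [pow_one] at this
    exact this ▸ Finset.smul_mem_smul_finset (Finset.smul_mem_smul_finset S.hb)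
  have hσbO : σ • b ∈ O := hOmem.mpr ⟨1, one_mem _, one_smul _ _⟩
  have hJcard : J.card = O.card := by
    refine Finset.card_bij (fun j _ => pt 1 j) (fun j hj => (Finset.mem_filter.mp hj).2)
      (fun i _ j _ h => hptinj 1 h) fun y hy => ?_
    obtain ⟨x, hx, rfl⟩ := Finset.mem_smul_finset.mp (hOsub hy)
    obtain ⟨l, rfl⟩ := hcsurj x hx
    refine ⟨l, Finset.mem_filter.mpr ⟨Finset.mem_univ _, ?_⟩, by simp [pt]⟩
    simpa [pt] using hy
  have hσBc : (σ • B).card = p := by rw [Finset.card_smul_finset, S.hBc]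
  have hO2 : 2 ≤ O.card := by
    by_contra h
    obtain ⟨t, ht, hne⟩ := hno (σ • b) (Finset.smul_mem_smul_finset S.hb)
    exact hne (Finset.card_le_one.mp (by omega) _ (hOmem.mpr ⟨t, ht, rfl⟩) _ hσbO)
  have hOp : O.card + 2 ≤ p := by
    have hle := Finset.card_le_card hOsub
    rw [hσBc] at hle
    rcases (by omega : O.card = p ∨ O.card + 1 = p ∨ O.card + 2 ≤ p) with h | h | h
    · exfalso
      apply S.hH
      have h1 : O.card ∣ Nat.card T := by
        have h2 : (orbit T (σ • b)).ncard = O.card := by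
          rw [← Set.ncard_coe_finset]
          congr 1
          ext y
          rw [Finset.mem_coe, hOmem]
          exact ⟨fun ⟨g, hg⟩ => ⟨g, g.2, hg⟩, fun ⟨g, hg, h⟩ => ⟨⟨g, hg⟩, h⟩⟩
        rw [← h2, ← Nat.card_coe_set_eq]
        exact ⟨Nat.card (stabilizer T (σ • b)), by
          rw [← Nat.card_prod, Nat.card_congr (MulAction.orbitProdStabilizerEquivGroup T (σ • b))]⟩
      rw [h] at h1
      exact h1.trans (Subgroup.card_dvd_of_le (inf_le_inf_right _ (kernel_le a B)))
    · exfalso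
      obtain ⟨x, hx⟩ : ∃ x, (σ • B) \ O = {x} := Finset.card_eq_one.mp (by
        rw [Finset.card_sdiff_of_subset hOsub, hσBc]; omega)
      obtain ⟨hxB, hxO⟩ := Finset.mem_sdiff.mp (hx.symm ▸ Finset.mem_singleton_self x)
      obtain ⟨t, ht, hne⟩ := hno x hxB
      have h2 : t • x ∈ (σ • B) \ O := by
        refine Finset.mem_sdiff.mpr ⟨?_, fun h => hxO ((hOinv t ht x).mp h)⟩
        have := (mem_kernel.mp ht.1).2 _ (hblock 1)
        rw [pow_one] at this
        exact this ▸ Finset.smul_mem_smul_finset hxB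
      rw [hx, Finset.mem_singleton] at h2
      exact hne h2
    · exact h
  have hc0 : c 0 = 1 := by simp [c]
  -- the permutations induced on the labels
  have hπ : ∀ t ∈ T, ∃ π : ℕ → Equiv.Perm (ZMod p), (∀ m l, t • pt m l = pt m (π m l)) ∧ π 0 0 = 0 ∧
      ∀ m l j, j - l ∈ J ↔ π (m + 1) j - π m l ∈ J := by
    intro t ht
    choose f hf using hmove t ht
    have hfb : ∀ m, Function.Bijective (f m) := fun m => Finite.injective_iff_bijective.mp
      fun i j h => hptinj m (smul_left_cancel t (by rw [hf, hf, h]))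
    have hf' : ∀ m l, t • pt m l = pt m (Equiv.ofBijective _ (hfb m) l) := fun m l => hf m l
    refine ⟨fun m => Equiv.ofBijective _ (hfb m), hf', ?_, fun m l j => ?_⟩
    · apply hptinj 0
      rw [← hf' 0 0]
      simp only [pt, pow_zero, one_smul, hc0]
      exact ht.2
    · rw [← hrel m l j, ← hrel m, hkey t ht _ (mul_mem (pow_mem hσ m) (hcP l).1)
        (σ ^ m * c (Equiv.ofBijective _ (hfb m) l)) (mul_mem (pow_mem hσ m) (hcP _).1)
        (by rw [mul_smul, mul_smul]; exact hf' m l), hf' (m + 1) j]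
  have hdiff : ∀ d d' : ZMod p, d ≠ 0 → d' ≠ 0 →
      (J.filter fun i => i + d ∈ J).card = (J.filter fun i => i + d' ∈ J).card := by
    intro d d' hd hd'
    have hne : ∀ e : ZMod p, e ≠ 0 → c e • b ≠ b := fun e he h =>
      he (hcinj (h.trans (show b = c 0 • b by rw [hc0, one_smul])))
    have hin : ∀ e : ZMod p, c e • b ∈ B := fun e => by
      have h := Finset.smul_mem_smul_finset (a := c e) S.hb
      rwa [MulAction.mem_stabilizer_iff.mp (hcP e).2] at h
    obtain ⟨t, ht, htd⟩ := hT _ (hin d) _ (hin d') (hne d hd) (hne d' hd')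
    obtain ⟨π, hπt, hπ0, hπr⟩ := hπ t ht
    have hπd : π 0 d = d' := by
      apply hptinj 0
      rw [← hπt]
      simp only [pt, pow_zero, one_smul]
      exact htd
    have hJ : ∀ j, j ∈ J ↔ π 1 j ∈ J := fun j => by
      have := hπr 0 0 j
      rwa [hπ0, sub_zero, sub_zero] at this
    have hJd : ∀ j, j - d ∈ J ↔ π 1 j - d' ∈ J := fun j => by
      have := hπr 0 d j
      rwa [hπd] at this
    refine Finset.card_bij (fun i _ => π 1 (i + d) - d') ?_ ?_ ?_
    · intro i hi
      obtain ⟨h1, h2⟩ := Finset.mem_filter.mp hi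
      refine Finset.mem_filter.mpr ⟨(hJd _).mp (by rwa [add_sub_cancel_right]), ?_⟩
      rw [sub_add_cancel]
      exact (hJ _).mp h2
    · intro i _ j _ h
      exact add_right_cancel ((π 1).injective (sub_left_injective h))
    · intro i hi
      obtain ⟨h1, h2⟩ := Finset.mem_filter.mp hi
      refine ⟨(π 1).symm (i + d') - d, Finset.mem_filter.mpr ⟨(hJd _).mpr ?_, ?_⟩, ?_⟩
      · rw [Equiv.apply_symm_apply, add_sub_cancel_right]; exact h1
      · rw [sub_add_cancel, hJ, Equiv.apply_symm_apply]; exact h2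
      · rw [sub_add_cancel, Equiv.apply_symm_apply, add_sub_cancel_right]
  -- convolution powers
  let F : ℕ → ZMod p → ℕ := fun m => Nat.rec (fun j => if j = 0 then 1 else 0)
    (fun _ G' j => ∑ i ∈ J, G' (j - i)) m
  have hFs : ∀ m j, F (m + 1) j = ∑ l, if j - l ∈ J then F m l else 0 := by
    intro m j
    show ∑ i ∈ J, F m (j - i) = _
    rw [← Finset.sum_filter]
    exact Finset.sum_bij (fun i _ => j - i) (fun i hi => by simpa using hi)
      (fun i _ l _ h => sub_right_injective h)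
      (fun l hl => ⟨j - l, (Finset.mem_filter.mp hl).2, sub_sub_cancel j l⟩) (fun i _ => rfl)
  have hinv : ∀ t ∈ T, ∀ π : ℕ → Equiv.Perm (ZMod p), π 0 0 = 0 →
      (∀ m l j, j - l ∈ J ↔ π (m + 1) j - π m l ∈ J) → ∀ m j, F m (π m j) = F m j := by
    intro t _ π hπ0 hπr m
    induction m with
    | zero =>
      intro j
      show (if π 0 j = 0 then 1 else 0) = if j = 0 then 1 else 0
      have : π 0 j = 0 ↔ j = 0 :=
        ⟨fun h => (π 0).injective (h.trans hπ0.symm), fun h => by rw [h, hπ0]⟩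
      simp [this]
    | succ m ih =>
      intro j
      rw [hFs, hFs]
      refine (Fintype.sum_equiv (π m) _ _ fun l => ?_).symm
      simp only [ih, hπr m l j]
  obtain ⟨i0, hi0⟩ := hgen _ hσp
  refine no_difference_set S.hp2 J (hJcard ▸ hO2) (hJcard ▸ hOp) hdiff F (fun j => rfl)
    (fun m j => rfl) (-(i0 : ZMod p)) fun i j hi hj => ?_
  have hptp : ∀ l, pt p l = c ((i0 : ZMod p) + l) • b := fun l => by
    show σ ^ p • c l • b = _
    rw [hi0, ← hcnat, ← mul_smul, hcadd]
  have hne : ∀ l, l ≠ -(i0 : ZMod p) → pt p l ≠ b := fun l hl h => hl (by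
    rw [hptp] at h
    exact eq_neg_of_add_eq_zero_right (hcinj (h.trans (show b = c 0 • b by rw [hc0, one_smul]))))
  have hin : ∀ l, pt p l ∈ B := fun l => by
    rw [hptp]
    have h := Finset.smul_mem_smul_finset (a := c ((i0 : ZMod p) + l)) S.hb
    rwa [MulAction.mem_stabilizer_iff.mp (hcP _).2] at h
  obtain ⟨t, ht, htij⟩ := hT _ (hin i) _ (hin j) (hne i hi) (hne j hj)
  obtain ⟨π, hπt, hπ0, hπr⟩ := hπ t ht
  have : π p i = j := hptinj p (by rw [← hπt, htij])
  rw [← this, hinv t ht π hπ0 hπr]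

/-- The kernel cannot act doubly transitively on `B`. -/
theorem case_two
    (hT : ∀ x ∈ B, ∀ y ∈ B, x ≠ b → y ≠ b → ∃ t ∈ kernel G a B ⊓ stabilizer G b, t • x = y) :
    False := by
  classical
  have hK := kernel_le (G := G) a B
  have hKc : ∀ g ∈ stabilizer G a, ∀ x ∈ kernel G a B, g * x * g⁻¹ ∈ kernel G a B :=
    fun g hg x hx => kernel_conj hg hx
  obtain ⟨σ, hσ, hσB, hσp⟩ := S.exists_move
  obtain ⟨φ, hφ, hφfix⟩ := S.exists_fixed_in_translate hT hσ hσp
  obtain ⟨T, hTdef⟩ : ∃ T : Subgroup G, T = kernel G a B ⊓ stabilizer G b := ⟨_, rfl⟩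
  rw [← hTdef] at hT hφfix
  obtain ⟨D, hDdef⟩ : ∃ D : Finset Ω, D = (fixSet T).erase a := ⟨_, rfl⟩
  obtain ⟨hD, hbD⟩ : ABlock G a D ∧ b ∈ D := by
    rw [hDdef, hTdef]; exact S.fixSet_block hK hKc
  have hσblock : σ • B ∈ blocks G a B := mem_blocks.mpr ⟨σ, S.hP hσ, rfl⟩
  have hφa : φ ≠ a := fun h => notMem_of_mem_blocks S.hB hσblock (h ▸ hφ)
  have hφD : φ ∈ D := hDdef ▸ Finset.mem_erase.mpr ⟨hφa, mem_fixSet.mpr hφfix⟩
  have hφB : φ ∉ B := fun h => hσB (blocks_eq_of_mem S.hB hσblock h hφ)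
  -- two points of `B` other than `b`
  obtain ⟨x, hx, hxb⟩ := Finset.exists_mem_ne (show 1 < B.card by rw [S.hBc]; exact S.hp.one_lt) b
  obtain ⟨y, hy, hyx, hyb⟩ : ∃ y ∈ B, y ≠ x ∧ y ≠ b := by
    obtain ⟨y, hy⟩ : ((B.erase b).erase x).Nonempty := by
      rw [← Finset.card_pos, Finset.card_erase_of_mem (Finset.mem_erase.mpr ⟨hxb, hx⟩),
        Finset.card_erase_of_mem S.hb, S.hBc]
      have := S.three_le
      omega
    simp only [Finset.mem_erase] at hy
    exact ⟨y, hy.2.2, hy.1, hy.2.1⟩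
  obtain ⟨t₀, ht₀, ht₀x⟩ := hT x hx y hy hxb hyb
  have ht₀ne : t₀ ≠ 1 := fun h => hyx (by rw [← ht₀x, h, one_smul])
  have hTH : T ≤ stabilizer G a := by rw [hTdef]; exact inf_le_left.trans hK
  have hDc : D.card = p := by
    rcases S.fixBlock_card hTH ht₀ ht₀ne (hDdef ▸ hD) (hDdef ▸ hbD) with h | h
    · exfalso
      rw [← hDdef, Finset.card_eq_one] at h
      obtain ⟨z, hz⟩ := h
      rw [hz, Finset.mem_singleton] at hbD hφD
      exact hφB (hφD.trans hbD.symm ▸ S.hb)
    · exact hDdef ▸ h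
  have hBD : B ∩ D = {b} := S.inter_eq hD hbD hDc fun h => hφB (h ▸ hφD)
  -- orbits of `T` away from `D`
  have horb : ∀ E ∈ blocks G a B, ∀ x ∈ E, x ∉ D → ∀ y ∈ E, y ∉ D → ∃ t ∈ T, t • x = y := by
    intro E hE x hx hxD y hy hyD
    obtain ⟨q, hq⟩ := S.meets_once hD hDc hBD hE
    obtain ⟨hqE, hqD⟩ := Finset.mem_inter.mp (hq.symm ▸ Finset.mem_singleton_self q)
    obtain ⟨v, hv, hvb⟩ := S.P_trans (fun h : q = a => hD.1 (h ▸ hqD))
    have hvB : v • B = E := by
      obtain ⟨g, hg, rfl⟩ := mem_blocks.mp hE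
      exact S.hB.smul_eq_smul (S.hP hv) hg (hvb ▸ Finset.smul_mem_smul_finset S.hb) hqE
    have hpre : ∀ z ∈ E, z ∉ D → v⁻¹ • z ∈ B ∧ v⁻¹ • z ≠ b := by
      intro z hz hzD
      refine ⟨by rw [Finset.inv_smul_mem_iff, hvB]; exact hz, fun h => hzD ?_⟩
      rw [inv_smul_eq_iff, hvb] at h
      exact h ▸ hqD
    obtain ⟨t, ht, htx⟩ := hT _ (hpre x hx hxD).1 _ (hpre y hy hyD).1 (hpre x hx hxD).2
      (hpre y hy hyD).2
    refine ⟨v * t * v⁻¹, ?_, by rw [mul_smul, mul_smul, htx, smul_inv_smul]⟩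
    have hqfix : ∀ s ∈ kernel G a B ⊓ stabilizer G b, s • q = q := by
      rw [← hTdef]
      exact mem_fixSet.mp (Finset.mem_erase.mp (hDdef ▸ hqD)).2
    rw [hTdef] at ht ⊢
    rw [← S.stab_eq_of_fixed hK hKc (fun h : q = a => hD.1 (h ▸ hqD)) hqfix]
    refine Subgroup.mem_inf.mpr ⟨kernel_conj (S.hP hv) (Subgroup.mem_inf.mp ht).1, ?_⟩
    rw [MulAction.mem_stabilizer_iff, mul_smul, mul_smul, ← hvb, inv_smul_smul,
      MulAction.mem_stabilizer_iff.mp (Subgroup.mem_inf.mp ht).2]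
  obtain ⟨s, hsa, hsb⟩ := exists_swap S.h2 S.b_ne_a
  obtain ⟨hbD', hD'c, hD'ins, hD'inv⟩ := S.swap_line hsa hsb
  obtain ⟨D', hD'def⟩ : ∃ D' : Finset Ω, D' = (s • insert a B).erase a := ⟨_, rfl⟩
  rw [← hD'def] at hbD' hD'c hD'ins hD'inv
  by_cases hsub : D' ⊆ D
  · have heq : D' = D := Finset.eq_of_subset_of_card_le hsub (by rw [hDc, hD'c])
    obtain ⟨hp3, hDB⟩ := line_count S.h2 S.hp S.hp2 S.hn S.hB hD S.hb hbD S.hBc hDc hsb
      (heq ▸ hD'ins.symm)
    refine S.no_three hp3 hD hbD hDc hDB (hTdef ▸ ht₀ : t₀ ∈ _ ⊓ stabilizer G b).1 ht₀ne ?_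
      fun z hz => mem_fixSet.mp (Finset.mem_erase.mp (hDdef ▸ hz)).2 t₀ ht₀
    obtain ⟨hK0, hb0⟩ := Subgroup.mem_inf.mp (hTdef ▸ ht₀ : t₀ ∈ _ ⊓ stabilizer G b)
    refine S.kernel_faithful (pow_mem hK0 2) (self_mem_blocks a B) fun z hz => ?_
    have hb0' : t₀ • b = b := hb0
    have hBfix : ∀ w ∈ B, t₀ • w ∈ B := fun w hw => by
      have := (mem_kernel.mp hK0).2 B (self_mem_blocks a B)
      exact this ▸ Finset.smul_mem_smul_finset hw
    have h3 : B = {b, x, y} := by
      refine (Finset.eq_of_subset_of_card_le (by simp [Finset.insert_subset_iff, S.hb, hx, hy]) ?_).symm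
      rw [S.hBc, hp3, Finset.card_insert_of_notMem (by simp [hxb.symm, hyb.symm]),
        Finset.card_pair hyx.symm]
    have hy' : t₀ • y = x := by
      have := hBfix y hy
      rw [h3] at this
      simp only [Finset.mem_insert, Finset.mem_singleton] at this
      rcases this with h | h | h
      · exact absurd (smul_left_cancel t₀ (h.trans hb0'.symm)) hyb
      · exact h
      · exact absurd (smul_left_cancel t₀ (h.trans ht₀x.symm)) hyx
    rw [h3] at hz
    simp only [Finset.mem_insert, Finset.mem_singleton] at hz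
    rw [sq, mul_smul]
    rcases hz with rfl | rfl | rfl
    · rw [hb0', hb0']
    · rw [ht₀x, hy']
    · rw [hy', ht₀x]
  · obtain ⟨c, hcD', hcD⟩ := Finset.not_subset.mp hsub
    have hca : c ≠ a := fun h => (Finset.mem_erase.mp (hD'def ▸ hcD')).1 h
    obtain ⟨E, hE, hcE⟩ := exists_block_mem S.h2 S.hB S.hb hca
    obtain ⟨φE, hφE⟩ := S.meets_once hD hDc hBD hE
    obtain ⟨hφEE, hφED⟩ := Finset.mem_inter.mp (hφE.symm ▸ Finset.mem_singleton_self φE)
    have hTleH : T ≤ stabilizer G a ⊓ stabilizer G b :=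
      le_inf hTH (by rw [hTdef]; exact inf_le_right)
    have hsubE : E \ D ⊆ D' := by
      intro z hz
      obtain ⟨hzE, hzD⟩ := Finset.mem_sdiff.mp hz
      obtain ⟨t, ht, rfl⟩ := horb E hE c hcE hcD z hzE hzD
      exact hD'inv t (hTleH ht) c hcD'
    have hEc : E.card = p := by
      obtain ⟨g, -, rfl⟩ := mem_blocks.mp hE
      rw [Finset.card_smul_finset, S.hBc]
    have hD'eq : D' = insert b (E \ D) := by
      refine (Finset.eq_of_subset_of_card_le (Finset.insert_subset hbD' hsubE) ?_).symm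
      rw [Finset.card_insert_of_notMem (fun h => (Finset.mem_sdiff.mp h).2 hbD), hD'c,
        Finset.card_sdiff, Finset.inter_comm D E, hφE, Finset.card_singleton, hEc]
      omega
    by_cases hEB : E = B
    · subst hEB
      have hDD : D' = E := by
        rw [hD'eq, ← Finset.sdiff_inter_self_left, hBD, Finset.sdiff_singleton_eq_erase,
          Finset.insert_erase S.hb]
      exact (line_count S.h2 S.hp S.hp2 S.hn S.hB S.hB S.hb S.hb S.hBc S.hBc hsb
        (hDD ▸ hD'ins.symm)).2 rfl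
    · obtain ⟨H, hHdef⟩ : ∃ H : Subgroup G, H = stabilizer G a ⊓ stabilizer G b := ⟨_, rfl⟩
      rw [← hHdef] at hTleH hD'inv
      have hHa : ∀ h ∈ H, h ∈ stabilizer G a := fun h hh => (hHdef ▸ hh : h ∈ _ ⊓ stabilizer G b).1
      have hHb : ∀ h ∈ H, h • b = b := fun h hh => (hHdef ▸ hh : h ∈ _ ⊓ stabilizer G b).2
      have hHE : ∀ h ∈ H, h • E = E := by
        intro h hh
        have h1 : h • c ∈ D' := hD'inv h hh c hcD'
        have h2 : h • c ≠ b := fun e => hcD
          (smul_left_cancel h (e.trans (hHb h hh).symm) ▸ hbD)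
        rw [hD'eq, Finset.mem_insert, Finset.mem_sdiff] at h1
        obtain ⟨g, hg, rfl⟩ := mem_blocks.mp hE
        have h4 := S.hB.smul_eq_smul (mul_mem (hHa h hh) hg) hg
          (by rw [mul_smul]; exact Finset.smul_mem_smul_finset hcE) (h1.resolve_left h2).1
        rwa [mul_smul] at h4
      have hHφ : ∀ h ∈ H, h • φE = φE := by
        intro h hh
        have hhD : h • D = D := hD.smul_eq (hHa h hh) hbD (by rw [hHb h hh]; exact hbD)
        have := Finset.mem_inter.mpr ⟨hHE h hh ▸ Finset.smul_mem_smul_finset hφEE,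
          hhD ▸ Finset.smul_mem_smul_finset hφED⟩
        rwa [hφE, Finset.mem_singleton] at this
      have hfix : fixSet (Ω := Ω) H = insert a D := by
        obtain ⟨hF, hbF⟩ := S.fixSet_block (N := stabilizer G a) le_rfl
          fun g hg x hx => mul_mem (mul_mem hg hx) (inv_mem hg)
        rw [← hHdef] at hF hbF
        have hsubF : (fixSet (Ω := Ω) H).erase a ⊆ D := by
          intro z hz
          rw [hDdef]
          obtain ⟨hza, hzf⟩ := Finset.mem_erase.mp hz
          exact Finset.mem_erase.mpr ⟨hza, mem_fixSet.mpr fun t ht => mem_fixSet.mp hzf t (hTleH ht)⟩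
        have hFc : ((fixSet (Ω := Ω) H).erase a).card = p := by
          rcases S.fixBlock_card (fun h hh => hHa h hh) (hTleH ht₀) ht₀ne hF hbF with h | h
          · exfalso
            have hφF : φE ∈ (fixSet (Ω := Ω) H).erase a := Finset.mem_erase.mpr
              ⟨fun e => hD.1 (e ▸ hφED), mem_fixSet.mpr hHφ⟩
            obtain ⟨z, hz⟩ := Finset.card_eq_one.mp h
            rw [hz, Finset.mem_singleton] at hbF hφF
            exact hEB (blocks_eq_of_mem S.hB hE S.hb (hbF.trans hφF.symm ▸ hφEE))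
          · exact h
        have := Finset.eq_of_subset_of_card_le hsubF (by rw [hFc, hDc])
        rw [← this, Finset.insert_erase (mem_fixSet.mpr fun h hh => hHa h hh)]
      have hsD : s • insert a D = insert a D := by
        refine Finset.eq_of_subset_of_card_le ?_ (by rw [Finset.card_smul_finset])
        rw [← hfix]
        intro z hz
        obtain ⟨w, hw, rfl⟩ := Finset.mem_smul_finset.mp hz
        refine mem_fixSet.mpr fun h hh => ?_
        have hh' : s⁻¹ * h * s ∈ H := by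
          rw [hHdef]
          constructor
          · show (s⁻¹ * h * s) • a = a
            rw [mul_smul, mul_smul, hsa, hHb h hh, inv_smul_eq_iff, hsa]
          · show (s⁻¹ * h * s) • b = b
            rw [mul_smul, mul_smul, hsb, MulAction.mem_stabilizer_iff.mp (hHa h hh), inv_smul_eq_iff,
              hsb]
        have := mem_fixSet.mp hw _ hh'
        rwa [mul_smul, mul_smul, inv_smul_eq_iff] at this
      exact (line_count S.h2 S.hp S.hp2 S.hn hD hD hbD hbD hDc hDc hsb hsD).2 rfl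

end Setup

end CfsgLib.Perm.SqOne
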