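import Mathlib.GroupTheory.GroupAction.MultipleTransitivity
import Mathlib.GroupTheory.PGroup
import Mathlib.Algebra.Group.Pointwise.Finset.Basic
import Mathlib.Algebra.Group.Action.Pointwise.Finset
import Mathlib.GroupTheory.Perm.Cycle.Type
import Mathlib.Tactic.Ring
import Mathlib.Tactic.LinearCombination

/-!
Blocks of a point stabilizer in a doubly transitive group of degree `p ^ 2 + 1`, and the line
count: a set `L = {a} ∪ B` moved by an element sending `b` to `a` onto `{a} ∪ D` forces `p = 3`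
and `D ≠ B`.
-/

set_option autoImplicit false

namespace CfsgLib.Perm.SqOne

open MulAction Finset
open scoped Pointwise

variable {G Ω : Type*} [Group G] [MulAction G Ω]

/-- Double transitivity, spelled out. -/
def TwoTrans (G Ω : Type*) [Group G] [MulAction G Ω] : Prop :=
  ∀ a b c d : Ω, a ≠ b → c ≠ d → ∃ g : G, g • a = c ∧ g • b = d

/-- A block of the stabilizer of `a` on the remaining points, as a finset of points. -/
def ABlock (G : Type*) {Ω : Type*} [Group G] [MulAction G Ω] (a : Ω) (B : Finset Ω) : Prop :=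
  a ∉ B ∧ ∀ g ∈ stabilizer G a, ∀ x ∈ B, g • x ∈ B → ∀ y ∈ B, g • y ∈ B

theorem exists_stab_smul (h2 : TwoTrans G Ω) {a b c : Ω} (hb : b ≠ a) (hc : c ≠ a) :
    ∃ g ∈ stabilizer G a, g • b = c := by
  obtain ⟨g, h1, h2'⟩ := h2 a b a c hb.symm hc.symm
  exact ⟨g, h1, h2'⟩

theorem exists_swap (h2 : TwoTrans G Ω) {a b : Ω} (hb : b ≠ a) :
    ∃ s : G, s • a = b ∧ s • b = a :=
  h2 a b b a hb.symm hb

section Blocks

variable [DecidableEq Ω]

theorem ABlock.smul_eq {a : Ω} {B : Finset Ω} (hB : ABlock G a B) {g : G}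
    (hg : g ∈ stabilizer G a) {x : Ω} (hx : x ∈ B) (hgx : g • x ∈ B) : g • B = B := by
  refine Finset.eq_of_subset_of_card_le (fun y hy => ?_) (by rw [Finset.card_smul_finset])
  obtain ⟨z, hz, rfl⟩ := Finset.mem_smul_finset.mp hy
  exact hB.2 g hg x hx hgx z hz

theorem ABlock.smul_eq_smul {a : Ω} {B : Finset Ω} (hB : ABlock G a B) {g h : G}
    (hg : g ∈ stabilizer G a) (hh : h ∈ stabilizer G a) {x : Ω} (hgx : x ∈ g • B)
    (hhx : x ∈ h • B) : g • B = h • B := by
  obtain ⟨y, hy, rfl⟩ := Finset.mem_smul_finset.mp hgx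
  obtain ⟨z, hz, hzy⟩ := Finset.mem_smul_finset.mp hhx
  have h1 : (h⁻¹ * g) • y = z := by rw [mul_smul, ← hzy, inv_smul_smul]
  have h2 := hB.smul_eq (mul_mem (inv_mem hh) hg) hy (by rw [h1]; exact hz)
  rwa [mul_smul, inv_smul_eq_iff] at h2

variable [Fintype Ω] [Finite G]

open scoped Classical in
/-- The translates of `B` under the stabilizer of `a`. -/
noncomputable def blocks (G : Type*) {Ω : Type*} [Group G] [MulAction G Ω] [DecidableEq Ω]
    [Fintype Ω] (a : Ω) (B : Finset Ω) : Finset (Finset Ω) :=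
  Finset.univ.filter fun E => ∃ g ∈ stabilizer G a, E = g • B

omit [Finite G] in
theorem mem_blocks {a : Ω} {B E : Finset Ω} :
    E ∈ blocks G a B ↔ ∃ g ∈ stabilizer G a, E = g • B := by
  classical
  simp [blocks]

omit [Finite G] in
theorem self_mem_blocks (a : Ω) (B : Finset Ω) : B ∈ blocks G a B :=
  mem_blocks.mpr ⟨1, one_mem _, (one_smul _ _).symm⟩

omit [Finite G] in
theorem smul_mem_blocks {a : Ω} {B E : Finset Ω} {g : G} (hg : g ∈ stabilizer G a)
    (hE : E ∈ blocks G a B) : g • E ∈ blocks G a B := by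
  obtain ⟨h, hh, rfl⟩ := mem_blocks.mp hE
  exact mem_blocks.mpr ⟨g * h, mul_mem hg hh, (mul_smul _ _ _).symm⟩

omit [Finite G] in
theorem blocks_eq_of_mem {a : Ω} {B : Finset Ω} (hB : ABlock G a B) {E : Finset Ω}
    (hE : E ∈ blocks G a B) {b : Ω} (hb : b ∈ B) (hbE : b ∈ E) : E = B := by
  obtain ⟨g, hg, rfl⟩ := mem_blocks.mp hE
  have := hB.smul_eq_smul hg (one_mem _) hbE (by rwa [one_smul])
  rwa [one_smul] at this

omit [Finite G] in
theorem notMem_of_mem_blocks {a : Ω} {B : Finset Ω} (hB : ABlock G a B) {E : Finset Ω}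
    (hE : E ∈ blocks G a B) : a ∉ E := by
  obtain ⟨g, hg, rfl⟩ := mem_blocks.mp hE
  intro h
  obtain ⟨x, hx, hxa⟩ := Finset.mem_smul_finset.mp h
  have : x = a := MulAction.injective g (hxa.trans (MulAction.mem_stabilizer_iff.mp hg).symm)
  exact hB.1 (this ▸ hx)

omit [Finite G] in
theorem exists_block_mem (h2 : TwoTrans G Ω) {a b : Ω} {B : Finset Ω} (hB : ABlock G a B)
    (hb : b ∈ B) {x : Ω} (hx : x ≠ a) : ∃ E ∈ blocks G a B, x ∈ E := by
  obtain ⟨g, hg, hgx⟩ := exists_stab_smul h2 (fun h : b = a => hB.1 (h ▸ hb)) hx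
  exact ⟨g • B, mem_blocks.mpr ⟨g, hg, rfl⟩, hgx ▸ Finset.smul_mem_smul_finset hb⟩

omit [Finite G] in
theorem card_blocks_mul (h2 : TwoTrans G Ω) {a b : Ω} {B : Finset Ω} (hB : ABlock G a B)
    (hb : b ∈ B) : (blocks G a B).card * B.card = Fintype.card Ω - 1 := by
  classical
  have h1 : (blocks G a B).biUnion id = Finset.univ.erase a := by
    ext x
    simp only [Finset.mem_biUnion, id, Finset.mem_erase, Finset.mem_univ, and_true]
    refine ⟨?_, fun hx => exists_block_mem h2 hB hb hx⟩
    rintro ⟨E, hE, hxE⟩ rfl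
    exact notMem_of_mem_blocks hB hE hxE
  have h3 := congrArg Finset.card h1
  rw [Finset.card_biUnion ?_, Finset.card_erase_of_mem (Finset.mem_univ a),
    Finset.card_univ] at h3
  · rw [← h3, Finset.sum_const_nat fun E hE => ?_]
    obtain ⟨g, -, rfl⟩ := mem_blocks.mp hE
    exact Finset.card_smul_finset g B
  · intro E hE F hF hne
    obtain ⟨g, hg, rfl⟩ := mem_blocks.mp hE
    obtain ⟨h, hh, rfl⟩ := mem_blocks.mp hF
    exact Finset.disjoint_left.mpr fun x hx hx' => hne (hB.smul_eq_smul hg hh hx hx')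

omit [Finite G] in
/-- A block has `1`, `p` or `p ^ 2` points. -/
theorem ABlock.card_cases (h2 : TwoTrans G Ω) {p : ℕ} (hp : p.Prime)
    (hn : Fintype.card Ω = p ^ 2 + 1) {a b : Ω} {B : Finset Ω} (hB : ABlock G a B)
    (hb : b ∈ B) : B.card = 1 ∨ B.card = p ∨ B.card = p ^ 2 := by
  have h1 := card_blocks_mul h2 hB hb
  rw [hn, Nat.add_sub_cancel] at h1
  obtain ⟨i, hi, hBi⟩ := (Nat.dvd_prime_pow hp).mp (Dvd.intro_left _ h1)
  rcases (by omega : i = 0 ∨ i = 1 ∨ i = 2) with rfl | rfl | rfl <;> simp [hBi]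

omit [Finite G] in
theorem card_blocks (h2 : TwoTrans G Ω) {p : ℕ} (hp : p.Prime)
    (hn : Fintype.card Ω = p ^ 2 + 1) {a b : Ω} {B : Finset Ω} (hB : ABlock G a B)
    (hb : b ∈ B) (hBc : B.card = p) : (blocks G a B).card = p := by
  have h1 := card_blocks_mul h2 hB hb
  rw [hn, Nat.add_sub_cancel, hBc, sq] at h1
  exact Nat.eq_of_mul_eq_mul_right hp.pos h1

end Blocks

section LineCount

variable [DecidableEq Ω] [Fintype Ω]

/-- The line count. -/
theorem line_count (h2 : TwoTrans G Ω) {p : ℕ} (hp : p.Prime) (hp2 : p ≠ 2)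
    (hn : Fintype.card Ω = p ^ 2 + 1) {a b : Ω} {B D : Finset Ω} (hB : ABlock G a B)
    (hD : ABlock G a D) (hbB : b ∈ B) (hbD : b ∈ D) (hBc : B.card = p) (hDc : D.card = p)
    {s : G} (hsb : s • b = a) (hs : s • insert a B = insert a D) : p = 3 ∧ D ≠ B := by
  classical
  let L : Finset Ω := insert a B
  have hbne : b ≠ a := fun h => hB.1 (h ▸ hbB)
  let lines : Finset (Finset Ω) := Finset.univ.filter fun M => ∃ g : G, M = g • L
  have hmem : ∀ M, M ∈ lines ↔ ∃ g : G, M = g • L := fun M => by simp [lines]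
  have hcard : ∀ M ∈ lines, M.card = p + 1 := by
    intro M hM
    obtain ⟨g, rfl⟩ := (hmem M).mp hM
    rw [Finset.card_smul_finset, Finset.card_insert_of_notMem hB.1, hBc]
  let through : Ω → Finset (Finset Ω) := fun x => lines.filter fun M => x ∈ M
  have hconst : ∀ x, (through x).card = (through a).card := by
    intro x
    obtain ⟨g, hg⟩ : ∃ g : G, g • a = x := by
      by_cases hx : x = a
      · exact ⟨1, by rw [hx, one_smul]⟩
      · obtain ⟨g, h1, -⟩ := h2 a x x a (Ne.symm hx) hx
        exact ⟨g, h1⟩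
    refine (Finset.card_bij (fun M _ => g • M) ?_ ?_ ?_).symm
    · intro M hM
      obtain ⟨h1, h3⟩ := Finset.mem_filter.mp hM
      obtain ⟨k, rfl⟩ := (hmem M).mp h1
      exact Finset.mem_filter.mpr ⟨(hmem _).mpr ⟨g * k, (mul_smul _ _ _).symm⟩,
        hg ▸ Finset.smul_mem_smul_finset h3⟩
    · intro M _ N _ h
      exact smul_left_cancel g h
    · intro M hM
      obtain ⟨h1, h3⟩ := Finset.mem_filter.mp hM
      obtain ⟨k, rfl⟩ := (hmem M).mp h1
      refine ⟨g⁻¹ • k • L, Finset.mem_filter.mpr ⟨(hmem _).mpr ⟨g⁻¹ * k, (mul_smul _ _ _).symm⟩, ?_⟩,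
        smul_inv_smul _ _⟩
      rw [Finset.mem_inv_smul_finset_iff, hg]
      exact h3
  let S : Finset Ω → Finset (Finset Ω) := fun E => (blocks G a E).image (insert a)
  have hScard : ∀ E : Finset Ω, ABlock G a E → b ∈ E → E.card = p → (S E).card = p := by
    intro E hE hbE hEc
    rw [Finset.card_image_of_injOn, card_blocks h2 hp hn hE hbE hEc]
    intro X hX Y hY h
    rw [← Finset.erase_insert (notMem_of_mem_blocks hE hX), h,
      Finset.erase_insert (notMem_of_mem_blocks hE hY)]
  have hinsert : ∀ {g : G}, g ∈ stabilizer G a → ∀ E : Finset Ω,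
      g • insert a E = insert a (g • E) := by
    intro g hg E
    rw [Finset.smul_finset_insert, MulAction.mem_stabilizer_iff.mp hg]
  have hthrough : through a = S B ∪ S D := by
    ext M
    constructor
    · intro hM
      obtain ⟨h1, h3⟩ := Finset.mem_filter.mp hM
      obtain ⟨g, rfl⟩ := (hmem M).mp h1
      obtain ⟨c, hc, hca⟩ := Finset.mem_smul_finset.mp h3
      rcases Finset.mem_insert.mp hc with rfl | hcB
      · refine Finset.mem_union_left _ (Finset.mem_image.mpr
          ⟨g • B, mem_blocks.mpr ⟨g, MulAction.mem_stabilizer_iff.mpr hca, rfl⟩, ?_⟩)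
        rw [hinsert (MulAction.mem_stabilizer_iff.mpr hca)]
      · obtain ⟨h, hh, hhb⟩ := exists_stab_smul h2 hbne (fun e : c = a => hB.1 (e ▸ hcB))
        have hhB : h • B = B := hB.smul_eq hh hbB (hhb ▸ hcB)
        have hk : g * h * s⁻¹ ∈ stabilizer G a := by
          rw [MulAction.mem_stabilizer_iff, mul_smul, mul_smul,
            show s⁻¹ • a = b from inv_smul_eq_iff.mpr hsb.symm, hhb, hca]
        refine Finset.mem_union_right _ (Finset.mem_image.mpr
          ⟨(g * h * s⁻¹) • D, mem_blocks.mpr ⟨_, hk, rfl⟩, ?_⟩)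
        rw [← hinsert hk, ← hs, ← mul_smul, inv_mul_cancel_right, mul_smul, hinsert hh, hhB]
    · intro hM
      rcases Finset.mem_union.mp hM with hM | hM <;>
        obtain ⟨E, hE, rfl⟩ := Finset.mem_image.mp hM <;>
        refine Finset.mem_filter.mpr ⟨(hmem _).mpr ?_, Finset.mem_insert_self _ _⟩ <;>
        obtain ⟨g, hg, rfl⟩ := mem_blocks.mp hE
      · exact ⟨g, (hinsert hg B).symm⟩
      · exact ⟨g * s, by rw [mul_smul, hs, hinsert hg]⟩
  have hcount : lines.card * (p + 1) = (p ^ 2 + 1) * (through a).card := by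
    calc lines.card * (p + 1) = ∑ M ∈ lines, M.card := (Finset.sum_const_nat hcard).symm
      _ = ∑ M ∈ lines, ∑ x : Ω, if x ∈ M then 1 else 0 := by
        refine Finset.sum_congr rfl fun M _ => ?_
        rw [Finset.sum_boole, Finset.filter_mem_eq_inter, Finset.univ_inter, Nat.cast_id]
      _ = ∑ x : Ω, (through x).card := by
        rw [Finset.sum_comm]
        exact Finset.sum_congr rfl fun x _ => by rw [Finset.sum_boole, Nat.cast_id]
      _ = (p ^ 2 + 1) * (through a).card := by
        rw [Finset.sum_congr rfl fun x _ => hconst x, Finset.sum_const, Finset.card_univ, hn,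
          smul_eq_mul]
  have hcop : Nat.Coprime (p + 1) p := Nat.coprime_self_add_left.mpr (Nat.coprime_one_left p)
  have hsq : (p : ℤ) ^ 2 + 1 = ((p : ℤ) - 1) * (p + 1) + 2 := by ring
  have key : ∀ r, (through a).card = r * p → (p + 1) ∣ 2 * r := by
    intro r hr
    refine hcop.dvd_of_dvd_mul_right ?_
    have h1 : (p + 1) ∣ (p ^ 2 + 1) * (r * p) := ⟨lines.card, by rw [← hr, ← hcount, mul_comm]⟩
    have h3 : ((p + 1 : ℕ) : ℤ) ∣ ((2 * r * p : ℕ) : ℤ) := by
      obtain ⟨m, hm⟩ := h1
      have hm' : ((p : ℤ) ^ 2 + 1) * (r * p) = (p + 1) * m := by exact_mod_cast hm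
      refine ⟨(m : ℤ) - (p - 1) * (r * p), ?_⟩
      push_cast
      rw [hsq] at hm'
      linear_combination hm'
    exact Int.natCast_dvd_natCast.mp h3
  have hp3 : 3 ≤ p := by have := hp.two_le; omega
  by_cases hDB : D = B
  · exfalso
    subst hDB
    rw [Finset.union_self] at hthrough
    have := key 1 (by rw [hthrough, hScard D hB hbB hBc, one_mul])
    have := Nat.le_of_dvd (by norm_num) this
    omega
  · refine ⟨?_, hDB⟩
    have hdis : Disjoint (S B) (S D) := by
      rw [Finset.disjoint_left]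
      intro M hM hM'
      obtain ⟨X, hX, rfl⟩ := Finset.mem_image.mp hM
      obtain ⟨Y, hY, hYX⟩ := Finset.mem_image.mp hM'
      have hXY : Y = X := by
        rw [← Finset.erase_insert (notMem_of_mem_blocks hD hY), hYX,
          Finset.erase_insert (notMem_of_mem_blocks hB hX)]
      subst hXY
      obtain ⟨g, hg, rfl⟩ := mem_blocks.mp hY
      have hmem' : g⁻¹ • g • D ∈ blocks G a B := smul_mem_blocks (inv_mem hg) hX
      rw [inv_smul_smul] at hmem'
      exact hDB (blocks_eq_of_mem hB hmem' hbB hbD)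
    have := key 2 (by rw [hthrough, Finset.card_union_of_disjoint hdis, hScard B hB hbB hBc,
      hScard D hD hbD hDc]; ring)
    have := Nat.le_of_dvd (by norm_num) this
    omega

end LineCount

section Misc

/-- A `p`-group fixing a point of an invariant set of at most `p` elements fixes all of it. -/
theorem pgroup_fix_small {α : Type*} [MulAction G α] [Finite G] {p : ℕ} [Fact p.Prime]
    {S : Subgroup G} (hS : IsPGroup p S) {F : Finset α} (hinv : ∀ s ∈ S, ∀ x ∈ F, s • x ∈ F)
    (hF : F.card ≤ p) {b : α} (hb : b ∈ F) (hfix : ∀ s ∈ S, s • b = b) :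
    ∀ s ∈ S, ∀ x ∈ F, s • x = x := by
  classical
  intro s hs x hx
  by_cases hxb : x = b
  · rw [hxb]; exact hfix s hs
  have hsub : orbit S x ⊆ (F.erase b : Finset α) := by
    rintro y ⟨⟨t, ht⟩, rfl⟩
    rw [Finset.mem_coe, Finset.mem_erase]
    refine ⟨fun h => hxb ?_, hinv t ht x hx⟩
    have h' : t • x = t • b := by rw [hfix t ht]; exact h
    exact smul_left_cancel t h'
  haveI : Finite (orbit S x) := ((F.erase b).finite_toSet.subset hsub).to_subtype
  obtain ⟨n, hn⟩ := hS.card_orbit x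
  have hle : Nat.card (orbit S x) ≤ (F.erase b).card := by
    rw [Nat.card_coe_set_eq, ← Set.ncard_coe_finset]
    exact Set.ncard_le_ncard hsub
  rw [Finset.card_erase_of_mem hb] at hle
  have hp : p.Prime := Fact.out
  have hn0 : n = 0 := by
    by_contra hne
    have : p ≤ p ^ n := Nat.le_self_pow hne p
    have := hp.pos
    omega
  rw [hn0, pow_zero] at hn
  haveI := (Nat.card_eq_one_iff_unique.mp hn).1
  have := Subsingleton.elim (⟨(⟨s, hs⟩ : S) • x, mem_orbit _ _⟩ : orbit S x)
    ⟨x, mem_orbit_self _⟩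
  exact congrArg Subtype.val this

variable [Fintype Ω] [DecidableEq Ω]

open scoped Classical in
/-- The fixed points of a subgroup. -/
noncomputable def fixSet (T : Subgroup G) : Finset Ω :=
  Finset.univ.filter fun x => ∀ t ∈ T, t • x = x

omit [DecidableEq Ω] in
theorem mem_fixSet {T : Subgroup G} {x : Ω} : x ∈ fixSet T ↔ ∀ t ∈ T, t • x = x := by
  classical
  simp [fixSet]

/-- An involution of degree `n` with exactly `f` fixed points has sign `(-1) ^ ((n - f) / 2)`. -/
theorem sign_of_sq_eq_one (t : Equiv.Perm Ω) (ht : t ^ 2 = 1) :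
    ∃ m, Fintype.card Ω = (Finset.univ.filter fun x => t x = x).card + 2 * m ∧
      Equiv.Perm.sign t = (-1) ^ m := by
  refine ⟨Multiset.card t.cycleType, ?_, ?_⟩
  · have h1 : t.support.card = 2 * Multiset.card t.cycleType := by
      rw [← Equiv.Perm.sum_cycleType]
      have h2 : ∀ n ∈ t.cycleType, n = 2 := by
        intro n hn
        have h3 := (Equiv.Perm.dvd_of_mem_cycleType hn).trans (orderOf_dvd_of_pow_eq_one ht)
        have h4 := Equiv.Perm.two_le_of_mem_cycleType hn
        exact le_antisymm (Nat.le_of_dvd two_pos h3) h4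
      rw [Multiset.eq_replicate_card.mpr h2, Multiset.sum_replicate, smul_eq_mul,
        Multiset.card_replicate, mul_comm]
    have h5 : (Finset.univ.filter fun x => t x = x).card + t.support.card = Fintype.card Ω := by
      rw [← Finset.card_univ, ← Finset.card_filter_add_card_filter_not (s := Finset.univ)
        (fun x => t x = x)]
      congr 2
    omega
  · rw [Equiv.Perm.sign_of_cycleType]
    have h2 : ∀ n ∈ t.cycleType, n = 2 := by
      intro n hn
      have h3 := (Equiv.Perm.dvd_of_mem_cycleType hn).trans (orderOf_dvd_of_pow_eq_one ht)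
      have h4 := Equiv.Perm.two_le_of_mem_cycleType hn
      exact le_antisymm (Nat.le_of_dvd two_pos h3) h4
    rw [Multiset.eq_replicate_card.mpr h2, Multiset.sum_replicate, Multiset.card_replicate,
      smul_eq_mul, pow_add, pow_mul', neg_one_sq, one_pow, one_mul]

end Misc

end CfsgLib.Perm.SqOne
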