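import Cfsg.Agent.Lib.Perm.SquarePlusOne.CaseOne
import Cfsg.Agent.Lib.Perm.SquarePlusOne.CaseTwo
import Mathlib.GroupTheory.Nilpotent

/-!
A doubly transitive group of degree `p ^ 2 + 1`, `p` an odd prime, has no blocks for the stabilizer
of a point: reduction to a regular Sylow subgroup and to even permutations.
-/

set_option autoImplicit false

namespace CfsgLib.Perm.SqOne

open MulAction Finset
open scoped Pointwise

variable {G Ω : Type*} [Group G] [Finite G] [MulAction G Ω] [Fintype Ω] [DecidableEq Ω]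

/-- A non-trivial Sylow subgroup of a two-point stabilizer would give a Steiner system. -/
theorem sylow_two_point_trivial {p : ℕ} [hp' : Fact p.Prime] (hp2 : p ≠ 2)
    (hn : Fintype.card Ω = p ^ 2 + 1) (h2 : TwoTrans G Ω)
    (hfaith : ∀ g : G, (∀ x : Ω, g • x = x) → g = 1) {a b : Ω} {B : Finset Ω}
    (hB : ABlock G a B) (hb : b ∈ B) (hBc : B.card = p) {P : Subgroup G}
    (hP : P ≤ stabilizer G a) (hPp : IsPGroup p P) (htrans : ∀ x : Ω, x ≠ a → ∃ v ∈ P, v • b = x)
    (hsyl : ∀ R : Subgroup G, IsPGroup p R → R ≤ stabilizer G a ⊓ stabilizer G b →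
      Nat.card R ≤ Nat.card ↥(P ⊓ stabilizer G b)) :
    P ⊓ stabilizer G b = ⊥ := by
  classical
  have hp : p.Prime := hp'.out
  by_contra hQ
  obtain ⟨Q, hQdef⟩ : ∃ Q : Subgroup G, Q = P ⊓ stabilizer G b := ⟨_, rfl⟩
  rw [← hQdef] at hQ hsyl
  have hQP : Q ≤ P := hQdef ▸ inf_le_left
  have hQa : ∀ g ∈ Q, g ∈ stabilizer G a := fun g hg => hP (hQP hg)
  have hQb : ∀ g ∈ Q, g • b = b := fun g hg => (hQdef ▸ hg : g ∈ P ⊓ stabilizer G b).2
  have hba : b ≠ a := fun h => hB.1 (h ▸ hb)
  have hne : ∀ {g : G}, g ∈ stabilizer G a → ∀ {x : Ω}, x ≠ a → g • x ≠ a := fun {g} hg {x} hx h =>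
    hx (MulAction.injective g (h.trans (MulAction.mem_stabilizer_iff.mp hg).symm))
  have hQB : ∀ g ∈ Q, g • B = B := fun g hg =>
    hB.smul_eq (hQa g hg) hb (by rw [hQb g hg]; exact hb)
  have hQp : IsPGroup p Q := hPp.to_le hQP
  have hBfix : ∀ g ∈ Q, ∀ x ∈ B, g • x = x :=
    pgroup_fix_small hQp (fun g hg x hx => hQB g hg ▸ Finset.smul_mem_smul_finset hx) hBc.le hb hQb
  -- the normalizer in `P` grows
  obtain ⟨z, hz, hzQ, hzn⟩ : ∃ z ∈ P, z ∉ Q ∧ ∀ g, g ∈ Q ↔ z * g * z⁻¹ ∈ Q := by
    haveI : Group.IsNilpotent P := hPp.isNilpotent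
    have hlt : Q.subgroupOf P < ⊤ := by
      rw [lt_top_iff_ne_top, Ne, Subgroup.subgroupOf_eq_top]
      intro h
      obtain ⟨x, hx, hxb⟩ := Finset.exists_mem_ne (show 1 < B.card by rw [hBc]; exact hp.one_lt) b
      obtain ⟨v, hv, hvb⟩ := htrans x (fun e => hB.1 (e ▸ hx))
      exact hxb (by rw [← hvb, hQb v (h hv)])
    obtain ⟨z, hzN, hzQ⟩ := SetLike.exists_of_lt (Group.normalizerCondition_of_isNilpotent _ hlt)
    refine ⟨z, z.2, fun h => hzQ (Subgroup.mem_subgroupOf.mpr h), fun g => ⟨fun hg => ?_, fun hg => ?_⟩⟩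
    · have := (Subgroup.mem_normalizer_iff.mp hzN ⟨g, hQP hg⟩).mp (Subgroup.mem_subgroupOf.mpr hg)
      simpa [Subgroup.mem_subgroupOf] using this
    · have hgP : g ∈ P := by
        have := mul_mem (mul_mem (inv_mem z.2) (hQP hg)) z.2
        simpa [mul_assoc] using this
      exact Subgroup.mem_subgroupOf.mp ((Subgroup.mem_normalizer_iff.mp hzN ⟨g, hgP⟩).mpr
        (by simpa [Subgroup.mem_subgroupOf] using hg))
  have hzb : z • b ≠ b := fun h => hzQ (hQdef ▸ ⟨hz, h⟩)
  have hzfix : ∀ g ∈ Q, g • z • b = z • b := by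
    intro g hg
    have : z⁻¹ * g * z ∈ Q := (hzn _).mpr (by simpa [mul_assoc] using hg)
    have h := hQb _ this
    rwa [mul_smul, mul_smul, inv_smul_eq_iff] at h
  obtain ⟨F, hFdef⟩ : ∃ F : Finset Ω, F = fixSet Q := ⟨_, rfl⟩
  have hF : F = insert a B := by
    apply Finset.Subset.antisymm
    · intro c hc
      rw [hFdef, mem_fixSet] at hc
      rw [Finset.mem_insert]
      by_contra hne'
      rw [not_or] at hne'
      obtain ⟨y, hy, rfl⟩ := htrans c hne'.1
      have hblk : y • B ∈ blocks G a B := mem_blocks.mpr ⟨y, hP hy, rfl⟩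
      have hyB : y • B ≠ B := fun h => hne'.2 (h ▸ Finset.smul_mem_smul_finset hb)
      have hQblk : ∀ g ∈ Q, ∀ X ∈ blocks G a B, g • X = X := by
        refine pgroup_fix_small (α := Finset Ω) hQp (fun g hg X hX => smul_mem_blocks (hQa g hg) hX)
          (card_blocks h2 hp hn hB hb hBc).le (self_mem_blocks a B) hQB
      -- `y` normalizes `Q`
      have hyQ : ∀ g ∈ Q, y⁻¹ * g * y ∈ Q := fun g hg => by
        rw [hQdef]
        refine Subgroup.mem_inf.mpr ⟨mul_mem (mul_mem (inv_mem hy) (hQP hg)) hy, ?_⟩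
        show (y⁻¹ * g * y) • b = b
        rw [mul_smul, mul_smul, hc g hg, inv_smul_smul]
      have hpow : ∀ m : ℕ, ∀ g ∈ Q, g • y ^ m • b = y ^ m • b := by
        intro m
        induction m with
        | zero => intro g hg; rw [pow_zero, one_smul, hQb g hg]
        | succ m ih =>
          intro g hg
          have h := ih _ (hyQ g hg)
          rw [mul_smul, mul_smul, inv_smul_eq_iff] at h
          rwa [pow_succ', mul_smul]
      have horbit : ∀ X ∈ blocks G a B, ∃ m : ℕ, y ^ m • B = X := by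
        have hsub : orbit (Subgroup.zpowers y) B ⊆ (blocks G a B : Set (Finset Ω)) := by
          rintro X ⟨⟨w, hw⟩, rfl⟩
          exact smul_mem_blocks ((Subgroup.zpowers_le.mpr (hP hy)) hw) (self_mem_blocks a B)
        haveI : Finite (orbit (Subgroup.zpowers y) B) :=
          ((blocks G a B).finite_toSet.subset hsub).to_subtype
        obtain ⟨k, hk⟩ := (hPp.to_le (Subgroup.zpowers_le.mpr hy)).card_orbit B
        have hle : Nat.card (orbit (Subgroup.zpowers y) B) ≤ p := by
          rw [← card_blocks h2 hp hn hB hb hBc, Nat.card_coe_set_eq, ← Set.ncard_coe_finset]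
          exact Set.ncard_le_ncard hsub
        have hk0 : k ≠ 0 := by
          rintro rfl
          rw [pow_zero] at hk
          haveI := (Nat.card_eq_one_iff_unique.mp hk).1
          exact hyB (congrArg Subtype.val (Subsingleton.elim
            (⟨(⟨y, Subgroup.mem_zpowers y⟩ : Subgroup.zpowers y) • B, mem_orbit _ _⟩ :
              orbit (Subgroup.zpowers y) B) ⟨B, mem_orbit_self _⟩))
        have heq : orbit (Subgroup.zpowers y) B = (blocks G a B : Set (Finset Ω)) := by
          refine Set.eq_of_subset_of_ncard_le hsub ?_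
          rw [Set.ncard_coe_finset, card_blocks h2 hp hn hB hb hBc, ← Nat.card_coe_set_eq, hk]
          exact Nat.le_self_pow hk0 p
        intro X hX
        obtain ⟨⟨w, hw⟩, hwX⟩ := (heq.symm ▸ hX : X ∈ orbit (Subgroup.zpowers y) B)
        obtain ⟨m, rfl⟩ := (isOfFinOrder_of_finite y).mem_powers_iff_mem_zpowers.mpr hw
        exact ⟨m, hwX⟩
      apply hQ
      rw [Subgroup.eq_bot_iff_forall]
      intro g hg
      refine hfaith g fun x => ?_
      by_cases hxa : x = a
      · rw [hxa]; exact hQa g hg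
      obtain ⟨X, hX, hxX⟩ := exists_block_mem h2 hB hb hxa
      obtain ⟨m, rfl⟩ := horbit X hX
      exact pgroup_fix_small hQp
        (fun g hg x hx => hQblk g hg _ hX ▸ Finset.smul_mem_smul_finset hx)
        (by rw [Finset.card_smul_finset, hBc]) (Finset.smul_mem_smul_finset hb) (hpow m) g hg x hxX
    · intro x hx
      rw [hFdef, mem_fixSet]
      intro g hg
      rcases Finset.mem_insert.mp hx with rfl | hx
      · exact hQa g hg
      · exact hBfix g hg x hx
  -- an element swapping `a` and `b` normalizing `Q`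
  obtain ⟨s, hsa, hsb⟩ := exists_swap h2 hba
  let H : Subgroup G := stabilizer G a ⊓ stabilizer G b
  have hQH : Q ≤ H := fun g hg => ⟨hQa g hg, hQb g hg⟩
  obtain ⟨Q', hQ'def⟩ : ∃ Q' : Subgroup G, Q' = Q.map (MulAut.conj s).toMonoidHom := ⟨_, rfl⟩
  have hQ'H : Q' ≤ H := by
    rw [hQ'def]
    rintro g ⟨q, hq, rfl⟩
    refine ⟨?_, ?_⟩
    · show (s * q * s⁻¹) • a = a
      rw [mul_smul, mul_smul, inv_smul_eq_iff.mpr hsb.symm, hQb q hq, hsb]
    · show (s * q * s⁻¹) • b = b
      rw [mul_smul, mul_smul, inv_smul_eq_iff.mpr hsa.symm, hQa q hq, hsa]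
  let SQ : Sylow p H :=
    { toSubgroup := Q.subgroupOf H
      isPGroup' := hQp.comap_of_injective H.subtype Subtype.val_injective
      is_maximal' := by
        intro R hR hle
        apply (Subgroup.eq_of_le_of_card_ge hle ?_).symm
        have h := hsyl (R.map H.subtype) (hR.map _) (Subgroup.map_subtype_le _)
        rwa [Subgroup.card_map_of_injective Subtype.val_injective,
          ← Nat.card_congr (Subgroup.subgroupOfEquivOfLe hQH).toEquiv] at h }
  have hQ'p : IsPGroup p (Q'.subgroupOf H) :=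
    (hQ'def ▸ hQp.map _ : IsPGroup p Q').comap_of_injective H.subtype Subtype.val_injective
  obtain ⟨SQ', hSQ'⟩ := hQ'p.exists_le_sylow
  obtain ⟨k, hk⟩ := MulAction.exists_smul_eq H SQ' SQ
  -- the composite fixes the line
  let t : G := (k : G) * s
  have hta : t • a = b := by
    show ((k : G) * s) • a = b
    rw [mul_smul, hsa]
    exact k.2.2
  have htb : t • b = a := by
    show ((k : G) * s) • b = a
    rw [mul_smul, hsb]
    exact k.2.1
  have htQ : ∀ g ∈ Q, t * g * t⁻¹ ∈ Q := by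
    intro g hg
    have h1 : s * g * s⁻¹ ∈ Q' := hQ'def ▸ ⟨g, hg, rfl⟩
    have h3 : (⟨s * g * s⁻¹, hQ'H h1⟩ : H) ∈ (SQ' : Subgroup H) := hSQ' (Subgroup.mem_subgroupOf.mpr h1)
    have h4 : k * ⟨s * g * s⁻¹, hQ'H h1⟩ * k⁻¹ ∈ (SQ : Subgroup H) := by
      rw [← hk]
      exact ⟨_, h3, rfl⟩
    have h5 : (k : G) * (s * g * s⁻¹) * (k : G)⁻¹ ∈ Q := Subgroup.mem_subgroupOf.mp h4
    simpa [t, mul_assoc] using h5
  have htF : t • insert a B = insert a B := by
    refine (Finset.eq_of_subset_of_card_le ?_ (by rw [Finset.card_smul_finset])).symm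
    rw [← hF, hFdef]
    intro x hx
    rw [Finset.mem_smul_finset]
    refine ⟨t⁻¹ • x, mem_fixSet.mpr fun g hg => ?_, smul_inv_smul t x⟩
    have := mem_fixSet.mp hx _ (htQ g hg)
    rwa [mul_smul, mul_smul, smul_eq_iff_eq_inv_smul] at this
  exact (line_count h2 hp hp2 hn hB hB hb hb hBc hBc htb htF).2 rfl

/-- No blocks in degree `p ^ 2 + 1`, for groups of even permutations. -/
theorem no_block_of_even {p : ℕ} (hp : p.Prime) (hp2 : p ≠ 2)
    (hn : Fintype.card Ω = p ^ 2 + 1) (h2 : TwoTrans G Ω)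
    (hfaith : ∀ g : G, (∀ x : Ω, g • x = x) → g = 1)
    (hsign : ∀ g : G, Equiv.Perm.sign (toPermHom G Ω g) = 1) {a b : Ω} {B : Finset Ω}
    (hB : ABlock G a B) (hb : b ∈ B) (hBc : B.card = p) : False := by
  classical
  haveI : Fact p.Prime := ⟨hp⟩
  have hba : b ≠ a := fun h => hB.1 (h ▸ hb)
  let A : Subgroup G := stabilizer G a
  let H : Subgroup G := stabilizer G a ⊓ stabilizer G b
  have hindex : Nat.card A = p ^ 2 * Nat.card H := by
    have h1 := Nat.card_congr (MulAction.orbitProdStabilizerEquivGroup A b)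
    rw [Nat.card_prod] at h1
    have h3 : Nat.card (orbit A b) = p ^ 2 := by
      have : orbit A b = {x : Ω | x ≠ a} := by
        ext x
        constructor
        · rintro ⟨⟨g, hg⟩, rfl⟩ h
          exact hba (MulAction.injective g (h.trans (MulAction.mem_stabilizer_iff.mp hg).symm))
        · intro hx
          obtain ⟨g, hg, hgx⟩ := exists_stab_smul h2 hba hx
          exact ⟨⟨g, hg⟩, hgx⟩
      rw [this, Nat.card_eq_fintype_card]
      simp only [Set.coe_setOf, Fintype.card_subtype_compl, Fintype.card_subtype_eq, hn]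
      omega
    have h4 : Nat.card (stabilizer A b) = Nat.card H :=
      Nat.card_congr
        { toFun := fun g => ⟨((g : A) : G), ⟨(g : A).2, g.2⟩⟩
          invFun := fun g => ⟨⟨(g : G), g.2.1⟩, g.2.2⟩
          left_inv := fun g => rfl
          right_inv := fun g => rfl }
    rw [← h1, h3, h4]
  obtain ⟨P₀⟩ : Nonempty (Sylow p A) := inferInstance
  let P : Subgroup G := (P₀ : Subgroup A).map A.subtype
  have hPA : P ≤ A := Subgroup.map_subtype_le _
  have hPp : IsPGroup p P := P₀.2.map _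
  obtain ⟨e, he⟩ : ∃ e, e = (Nat.card H).factorization p := ⟨_, rfl⟩
  have hPc : Nat.card P = p ^ (2 + e) := by
    rw [Subgroup.card_map_of_injective Subtype.val_injective, Sylow.card_eq_multiplicity, hindex,
      Nat.factorization_mul (pow_ne_zero _ hp.ne_zero) Nat.card_pos.ne', Finsupp.add_apply,
      hp.factorization_pow, Finsupp.single_eq_same, he]
  have hRle : ∀ R : Subgroup G, IsPGroup p R → R ≤ H → Nat.card R ≤ p ^ e := by
    intro R hR hRH
    obtain ⟨i, hi⟩ := IsPGroup.iff_card.mp hR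
    rw [hi]
    refine Nat.pow_le_pow_right hp.pos ?_
    rw [he, ← hp.pow_dvd_iff_le_factorization Nat.card_pos.ne', ← hi]
    exact Subgroup.card_dvd_of_le hRH
  have horb := Nat.card_congr (MulAction.orbitProdStabilizerEquivGroup P b)
  rw [Nat.card_prod] at horb
  have hPb : Nat.card (stabilizer P b) = Nat.card ↥(P ⊓ stabilizer G b) :=
    Nat.card_congr
      { toFun := fun g => ⟨((g : P) : G), ⟨(g : P).2, g.2⟩⟩
        invFun := fun g => ⟨⟨(g : G), g.2.1⟩, g.2.2⟩
        left_inv := fun g => rfl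
        right_inv := fun g => rfl }
  have hsub : orbit P b ⊆ {x : Ω | x ≠ a} := by
    rintro x ⟨⟨g, hg⟩, rfl⟩ h
    exact hba (MulAction.injective g (h.trans (MulAction.mem_stabilizer_iff.mp (hPA hg)).symm))
  have hcompl : ({x : Ω | x ≠ a} : Set Ω).ncard = p ^ 2 := by
    rw [← Nat.card_coe_set_eq, Nat.card_eq_fintype_card]
    simp only [Set.coe_setOf, Fintype.card_subtype_compl, Fintype.card_subtype_eq, hn]
    omega
  have hPbe := hRle (P ⊓ stabilizer G b) (hPp.to_le inf_le_left) (inf_le_inf_right _ hPA)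
  have hole : Nat.card (orbit P b) ≤ p ^ 2 := by
    rw [← hcompl, Nat.card_coe_set_eq]
    exact Set.ncard_le_ncard hsub
  have hmul : Nat.card (orbit P b) * Nat.card ↥(P ⊓ stabilizer G b) = p ^ 2 * p ^ e := by
    rw [← hPb, horb, hPc, pow_add]
  have hPbc : Nat.card ↥(P ⊓ stabilizer G b) = p ^ e := by
    have hh := Nat.mul_le_mul_right (Nat.card ↥(P ⊓ stabilizer G b)) hole
    rw [hmul] at hh
    exact le_antisymm hPbe (Nat.le_of_mul_le_mul_left hh (pow_pos hp.pos 2))
  have horbc : Nat.card (orbit P b) = p ^ 2 := by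
    rw [hPbc] at hmul
    exact Nat.eq_of_mul_eq_mul_right (pow_pos hp.pos e) hmul
  have htrans : ∀ x : Ω, x ≠ a → ∃ v ∈ P, v • b = x := by
    intro x hx
    have heq : orbit P b = {x : Ω | x ≠ a} :=
      Set.eq_of_subset_of_ncard_le hsub (by rw [hcompl, ← Nat.card_coe_set_eq, horbc])
    obtain ⟨⟨v, hv⟩, hvx⟩ := (heq.symm ▸ hx : x ∈ orbit P b)
    exact ⟨v, hv, hvx⟩
  have hbot := sylow_two_point_trivial hp2 hn h2 hfaith hB hb hBc hPA hPp htrans
    (fun R hR hRH => hPbc ▸ hRle R hR hRH)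
  have he0 : e = 0 := by
    rw [hbot, Subgroup.card_bot] at hPbc
    exact (Nat.pow_eq_one.mp hPbc.symm).resolve_left hp.one_lt.ne'
  have hH : ¬ p ∣ Nat.card H := by
    rw [← pow_one p, hp.pow_dvd_iff_le_factorization Nat.card_pos.ne', ← he, he0]
    omega
  have S : Setup G p a b B P :=
    ⟨hp, hp2, hn, h2, hfaith, hsign, hB, hb, hBc, hPA, by rw [hPc, he0, add_zero], hH⟩
  -- Burnside on a block
  obtain ⟨u, hu, hup, hgen⟩ := S.exists_gen
  have hKB : ∀ g ∈ kernel G a B, ∀ x ∈ B, g • x ∈ B := fun g hg x hx =>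
    (mem_kernel.mp hg).2 B (self_mem_blocks a B) ▸ Finset.smul_mem_smul_finset hx
  let f := resHom (kernel G a B) B hKB
  let uK : kernel G a B := ⟨u, S.P0_le_kernel hu⟩
  have hfpow : ∀ (i : ℕ) (x : B), (((f uK ^ i) x : B) : Ω) = u ^ i • (x : Ω) := by
    intro i x
    rw [← map_pow]
    simp [f, uK]
  have hu' : ∀ x y : B, ∃ i : ℕ, (f uK ^ i) x = y := by
    intro x y
    obtain ⟨v, hv, hvb⟩ := S.P0_trans x.2
    obtain ⟨w, hw, hwb⟩ := S.P0_trans y.2
    obtain ⟨i, hi⟩ := hgen _ (mul_mem hw (inv_mem hv))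
    refine ⟨i, Subtype.ext ?_⟩
    rw [hfpow, ← hi, ← hvb, ← mul_smul, inv_mul_cancel_right, hwb]
  rcases dichotomy (α := B) (p := p) (by rw [Fintype.card_coe, hBc]) f uK hu' with htr | haff
  · refine S.case_two fun x hx y hy hxb hyb => ?_
    obtain ⟨g, hg1, hg2⟩ := htr ⟨b, hb⟩ ⟨x, hx⟩ ⟨b, hb⟩ ⟨y, hy⟩
      (fun e => hxb (congrArg Subtype.val e).symm) (fun e => hyb (congrArg Subtype.val e).symm)
    exact ⟨g, Subgroup.mem_inf.mpr ⟨g.2, MulAction.mem_stabilizer_iff.mpr (congrArg Subtype.val hg1)⟩,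
      congrArg Subtype.val hg2⟩
  · refine S.case_one fun g hg v hv => ?_
    obtain ⟨i, rfl⟩ := hgen v hv
    have hgK : g * u ^ i * g⁻¹ ∈ kernel G a B := kernel_conj hg (S.P0_le_kernel hv)
    obtain ⟨j, hj⟩ := haff ⟨_, hgK⟩ (by
      rw [← map_pow]
      have : (⟨_, hgK⟩ : kernel G a B) ^ p = 1 := Subtype.ext (by
        rw [SubmonoidClass.coe_pow, conj_pow, ← pow_mul, mul_comm, pow_mul, hup, one_pow, mul_one,
          mul_inv_cancel]
        rfl)
      rw [this, map_one])
    have huj : u ^ j ∈ P ⊓ stabilizer G B := pow_mem hu j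
    have h1 := S.kernel_faithful (mul_mem (inv_mem (S.P0_le_kernel huj)) hgK) (self_mem_blocks a B)
      (fun x hx => by
        have e := congrArg (fun q : Equiv.Perm B => ((q ⟨x, hx⟩ : B) : Ω)) hj
        rw [hfpow] at e
        rw [mul_smul, inv_smul_eq_iff]
        simpa [f] using e)
    rw [← inv_mul_eq_one.mp h1]
    exact huj

/-- No blocks in degree `p ^ 2 + 1`. -/
theorem no_block {p : ℕ} (hp : p.Prime) (hp2 : p ≠ 2) (hn : Fintype.card Ω = p ^ 2 + 1)
    (h2 : TwoTrans G Ω) (hfaith : ∀ g : G, (∀ x : Ω, g • x = x) → g = 1) {a b : Ω} {B : Finset Ω}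
    (hB : ABlock G a B) (hb : b ∈ B) (hBc : B.card = p) : False := by
  classical
  haveI : Fact p.Prime := ⟨hp⟩
  let N : Subgroup G := (Equiv.Perm.sign.comp (toPermHom G Ω)).ker
  have hNmem : ∀ {g : G}, g ∈ N ↔ Equiv.Perm.sign (toPermHom G Ω g) = 1 := fun {g} => by
    simp [N, MonoidHom.mem_ker]
  -- stabilizers in `N` are transitive on the remaining points
  have htr : ∀ x y z : Ω, y ≠ x → z ≠ x → ∃ g ∈ N, g • x = x ∧ g • y = z := by
    intro x y z hy hz
    obtain ⟨g, hg, hgz⟩ := exists_stab_smul h2 hy hz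
    obtain ⟨P⟩ : Nonempty (Sylow p (stabilizer G x)) := inferInstance
    -- the orbit of a Sylow subgroup
    have hstab : Nat.card (stabilizer G x) =
        p ^ 2 * Nat.card (stabilizer (stabilizer G x) y) := by
      have h1 := Nat.card_congr (MulAction.orbitProdStabilizerEquivGroup (stabilizer G x) y)
      rw [Nat.card_prod] at h1
      have h3 : orbit (stabilizer G x) y = {w : Ω | w ≠ x} := by
        ext w
        constructor
        · rintro ⟨⟨k, hk⟩, rfl⟩ h
          exact hy (MulAction.injective k (h.trans (MulAction.mem_stabilizer_iff.mp hk).symm))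
        · intro hw
          obtain ⟨k, hk, hkw⟩ := exists_stab_smul h2 hy hw
          exact ⟨⟨k, hk⟩, hkw⟩
      rw [← h1, h3, Nat.card_eq_fintype_card (α := ({w : Ω | w ≠ x} : Set Ω))]
      simp only [Set.coe_setOf, Fintype.card_subtype_compl, Fintype.card_subtype_eq, hn]
      rfl
    have horb := Nat.card_congr (MulAction.orbitProdStabilizerEquivGroup (P : Subgroup (stabilizer G x)) y)
    rw [Nat.card_prod, Sylow.card_eq_multiplicity, hstab,
      Nat.factorization_mul (pow_ne_zero _ hp.ne_zero) Nat.card_pos.ne', Finsupp.add_apply,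
      hp.factorization_pow, Finsupp.single_eq_same, pow_add] at horb
    have hst : Nat.card (stabilizer (P : Subgroup (stabilizer G x)) y) ≤
        p ^ (Nat.card (stabilizer (stabilizer G x) y)).factorization p := by
      obtain ⟨i, hi⟩ := IsPGroup.iff_card.mp (P.2.to_subgroup (stabilizer (P : Subgroup (stabilizer G x)) y))
      rw [hi]
      refine Nat.pow_le_pow_right hp.pos ?_
      rw [← hp.pow_dvd_iff_le_factorization Nat.card_pos.ne', ← hi]
      exact Subgroup.card_dvd_of_injective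
        ({ toFun := fun k => ⟨((k : (P : Subgroup (stabilizer G x))) : stabilizer G x), k.2⟩
           map_one' := rfl
           map_mul' := fun _ _ => rfl } :
          stabilizer (P : Subgroup (stabilizer G x)) y →* stabilizer (stabilizer G x) y)
        (fun k k' e => Subtype.ext (Subtype.ext (congrArg
          (fun q : stabilizer (stabilizer G x) y => (q : stabilizer G x)) e)))
    have hcompl : ({w : Ω | w ≠ x} : Set Ω).ncard = p ^ 2 := by
      rw [← Nat.card_coe_set_eq, Nat.card_eq_fintype_card]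
      simp only [Set.coe_setOf, Fintype.card_subtype_compl, Fintype.card_subtype_eq, hn]
      omega
    have hsub : orbit (P : Subgroup (stabilizer G x)) y ⊆ {w : Ω | w ≠ x} := by
      rintro w ⟨⟨⟨k, hk⟩, hkP⟩, rfl⟩ h
      exact hy (MulAction.injective k (h.trans (MulAction.mem_stabilizer_iff.mp hk).symm))
    have heq : orbit (P : Subgroup (stabilizer G x)) y = {w : Ω | w ≠ x} := by
      refine Set.eq_of_subset_of_ncard_le hsub ?_
      rw [hcompl, ← Nat.card_coe_set_eq]
      have hh := horb ▸ Nat.mul_le_mul_left (Nat.card (orbit (P : Subgroup (stabilizer G x)) y)) hst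
      exact Nat.le_of_mul_le_mul_right hh (pow_pos hp.pos _)
    obtain ⟨⟨k, hkP⟩, hk⟩ := (heq.symm ▸ hz : z ∈ orbit (P : Subgroup (stabilizer G x)) y)
    refine ⟨(k : G), hNmem.mpr ?_, k.2, hk⟩
    obtain ⟨i, hi⟩ := (IsPGroup.iff_orderOf.mp P.2) ⟨k, hkP⟩
    have hodd : Odd (p ^ i) := (hp.odd_of_ne_two hp2).pow
    have hk1 : (k : G) ^ (p ^ i) = 1 := by
      have h := pow_orderOf_eq_one (⟨k, hkP⟩ : (P : Subgroup (stabilizer G x)))
      rw [hi] at h
      exact congrArg (fun q : (P : Subgroup (stabilizer G x)) => ((q : stabilizer G x) : G)) h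
    have hsg := congrArg (fun g => Equiv.Perm.sign (toPermHom G Ω g)) hk1
    simp only [map_pow, map_one] at hsg
    rcases Int.units_eq_one_or (Equiv.Perm.sign (toPermHom G Ω (k : G))) with h | h
    · exact h
    · rw [h, hodd.neg_one_pow] at hsg
      exact absurd hsg (by decide)
  have hN2 : TwoTrans N Ω := by
    intro x y z w hxy hzw
    have hone : ∀ x z : Ω, ∃ g ∈ N, g • x = z := by
      intro x z
      obtain ⟨c, hc⟩ : ∃ c, c ∈ (Finset.univ : Finset Ω) \ {x, z} := by
        refine Finset.card_pos.mp ?_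
        have h1 := Finset.le_card_sdiff ({x, z} : Finset Ω) Finset.univ
        have h3 : ({x, z} : Finset Ω).card ≤ 2 := Finset.card_le_two
        rw [Finset.card_univ, hn] at h1
        have h4 : 2 * 2 ≤ p ^ 2 := by rw [sq]; exact Nat.mul_le_mul hp.two_le hp.two_le
        omega
      simp only [Finset.mem_sdiff, Finset.mem_univ, true_and, Finset.mem_insert,
        Finset.mem_singleton, not_or] at hc
      obtain ⟨g, hg, -, hgz⟩ := htr c x z (Ne.symm hc.1) (Ne.symm hc.2)
      exact ⟨g, hg, hgz⟩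
    obtain ⟨g, hg, hgx⟩ := hone x z
    have hgy : g • y ≠ z := fun e => hxy (smul_left_cancel g (hgx.trans e.symm))
    obtain ⟨k, hk, hkz, hkw⟩ := htr z (g • y) w hgy hzw.symm
    exact ⟨⟨k * g, mul_mem hk hg⟩, (mul_smul k g x).trans (by rw [hgx, hkz]),
      (mul_smul k g y).trans hkw⟩
  refine no_block_of_even (G := N) hp hp2 hn hN2 (fun g h => Subtype.ext (hfaith g h))
    (fun g => hNmem.mp g.2) (a := a) (b := b) (B := B) ⟨hB.1, fun g hg => hB.2 (g : G) hg⟩ hb hBc

end CfsgLib.Perm.SqOne
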