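import Cfsg.Agent.Lib.Perm.SquarePlusOne.Lines
import Cfsg.Agent.Lib.Perm.PrimeDegree
import Cfsg.Agent.S0675
import Mathlib.GroupTheory.GroupAction.Period
import Mathlib.FieldTheory.Finite.Basic

/-!
A doubly transitive group of even permutations of degree `p ^ 2 + 1` whose Sylow `p`-subgroup is
regular on the points other than `a`: common facts.
-/

set_option autoImplicit false

namespace CfsgLib.Perm.SqOne

open MulAction Finset
open scoped Pointwise

variable {G Ω : Type*} [Group G] [Finite G] [MulAction G Ω] [Fintype Ω] [DecidableEq Ω]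

/-- The situation to be refuted. -/
structure Setup (G : Type*) {Ω : Type*} [Group G] [MulAction G Ω] [Fintype Ω] [DecidableEq Ω]
    (p : ℕ) (a b : Ω) (B : Finset Ω) (P : Subgroup G) : Prop where
  hp : p.Prime
  hp2 : p ≠ 2
  hn : Fintype.card Ω = p ^ 2 + 1
  h2 : TwoTrans G Ω
  faithful : ∀ g : G, (∀ x : Ω, g • x = x) → g = 1
  hsign : ∀ g : G, Equiv.Perm.sign (toPermHom G Ω g) = 1
  hB : ABlock G a B
  hb : b ∈ B
  hBc : B.card = p
  hP : P ≤ stabilizer G a
  hPc : Nat.card P = p ^ 2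
  hH : ¬ p ∣ Nat.card ↥(stabilizer G a ⊓ stabilizer G b)

/-- The kernel of the action of the stabilizer of `a` on the translates of `B`. -/
noncomputable def kernel (G : Type*) {Ω : Type*} [Group G] [MulAction G Ω] [Fintype Ω]
    [DecidableEq Ω] (a : Ω) (B : Finset Ω) : Subgroup G :=
  stabilizer G a ⊓ ⨅ E ∈ blocks G a B, stabilizer G E

omit [Finite G] in
theorem mem_kernel {a : Ω} {B : Finset Ω} {g : G} :
    g ∈ kernel G a B ↔ g ∈ stabilizer G a ∧ ∀ E ∈ blocks G a B, g • E = E := by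
  simp only [kernel, Subgroup.mem_inf, Subgroup.mem_iInf, MulAction.mem_stabilizer_iff]

omit [Finite G] in
theorem kernel_le (a : Ω) (B : Finset Ω) : kernel G a B ≤ stabilizer G a := inf_le_left

omit [Finite G] in
theorem kernel_conj {a : Ω} {B : Finset Ω} {g k : G} (hg : g ∈ stabilizer G a)
    (hk : k ∈ kernel G a B) : g * k * g⁻¹ ∈ kernel G a B := by
  obtain ⟨h1, h2⟩ := mem_kernel.mp hk
  refine mem_kernel.mpr ⟨mul_mem (mul_mem hg h1) (inv_mem hg), fun E hE => ?_⟩
  rw [mul_smul, mul_smul, h2 _ (smul_mem_blocks (inv_mem hg) hE), smul_inv_smul]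

omit [Finite G] [Fintype Ω] in
theorem ABlock.inter {a : Ω} {B D : Finset Ω} (hB : ABlock G a B) (hD : ABlock G a D) :
    ABlock G a (B ∩ D) :=
  ⟨fun h => hB.1 (Finset.mem_inter.mp h).1, fun g hg x hx hgx y hy =>
    Finset.mem_inter.mpr
      ⟨hB.2 g hg x (Finset.mem_inter.mp hx).1 (Finset.mem_inter.mp hgx).1 y (Finset.mem_inter.mp hy).1,
       hD.2 g hg x (Finset.mem_inter.mp hx).2 (Finset.mem_inter.mp hgx).2 y (Finset.mem_inter.mp hy).2⟩⟩

/-- The restriction of a group to an invariant finite set. -/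
def resHom {α : Type*} [MulAction G α] (W : Subgroup G) (F : Finset α)
    (h : ∀ g ∈ W, ∀ x ∈ F, g • x ∈ F) : W →* Equiv.Perm F where
  toFun w :=
    ⟨fun x => ⟨(w : G) • (x : α), h w w.2 x x.2⟩,
      fun x => ⟨(w : G)⁻¹ • (x : α), h _ (inv_mem w.2) x x.2⟩,
      fun x => Subtype.ext (inv_smul_smul _ _), fun x => Subtype.ext (smul_inv_smul _ _)⟩
  map_one' := Equiv.ext fun x => Subtype.ext (one_smul _ _)
  map_mul' v w := Equiv.ext fun x => Subtype.ext (mul_smul _ _ _)

@[simp] theorem resHom_apply {α : Type*} [MulAction G α] (W : Subgroup G) (F : Finset α)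
    (h : ∀ g ∈ W, ∀ x ∈ F, g • x ∈ F) (w : W) (x : F) :
    ((resHom W F h w x : F) : α) = (w : G) • (x : α) := rfl

omit [Finite G] in
/-- Burnside's dichotomy for a homomorphism onto a transitive group of prime degree containing
the image of `u`. -/
theorem dichotomy {α : Type*} [Fintype α] [DecidableEq α] {p : ℕ} [Fact p.Prime]
    (hα : Fintype.card α = p) {W : Type*} [Group W] (f : W →* Equiv.Perm α) (u : W)
    (hu : ∀ x y : α, ∃ i : ℕ, (f u ^ i) x = y) :
    (∀ x y z w : α, x ≠ y → z ≠ w → ∃ g, f g x = z ∧ f g y = w) ∨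
      ∀ g, f g ^ p = 1 → ∃ i : ℕ, f g = f u ^ i := by
  have hp : p.Prime := Fact.out
  haveI : IsPretransitive f.range α := ⟨fun x y => by
    obtain ⟨i, hi⟩ := hu x y
    exact ⟨⟨f u ^ i, u ^ i, map_pow f u i⟩, hi⟩⟩
  rcases Cfsg.Agent.S0675.result (α := α) (hα.symm ▸ hp) f.range with hsol | h2
  · refine Or.inr fun g hg => ?_
    obtain ⟨σ, e, hσo, hσ⟩ := CfsgLib.Perm.exists_equiv_zmod (p := p) hα f.range
    haveI := hsol
    have haff := CfsgLib.Perm.affine_of_isSolvable hα f.range σ hσo e hσ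
    have htrans : ∀ h ∈ f.range, h ^ p = 1 →
        ∃ c : ZMod p, ∀ j, h (e j) = e (j + c) := by
      intro h hh hhp
      obtain ⟨c, d, hcd⟩ := haff h hh
      have hval : ∀ j, h (e j) = e (c * j + d) := fun j => by rw [← hcd, e.apply_symm_apply]
      have hpow : ∀ n : ℕ, ∃ t, ∀ j, (h ^ n) (e j) = e (c ^ n * j + t) := by
        intro n
        induction n with
        | zero => exact ⟨0, fun j => by simp⟩
        | succ n ih =>
          obtain ⟨t, ht⟩ := ih
          refine ⟨c * t + d, fun j => ?_⟩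
          rw [pow_succ', Equiv.Perm.mul_apply, ht, hval]
          congr 1
          ring
      obtain ⟨t, ht⟩ := hpow p
      have h0 := ht 0
      have h1 := ht 1
      rw [hhp, Equiv.Perm.one_apply] at h0 h1
      have h0' := e.injective h0
      have h1' := e.injective h1
      rw [ZMod.pow_card] at h0' h1'
      have hc : c = 1 := by linear_combination h0' - h1'
      exact ⟨d, fun j => by rw [hval, hc, one_mul]⟩
    have hfu : ∀ j, ∃ c d, (f u) (e j) = e (c * j + d) := fun j => by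
      obtain ⟨c, d, hcd⟩ := haff (f u) ⟨u, rfl⟩
      exact ⟨c, d, by rw [← hcd, e.apply_symm_apply]⟩
    obtain ⟨c, hc⟩ : ∃ c : ZMod p, ∀ j, (f u) (e j) = e (j + c) := by
      obtain ⟨c, d, hcd⟩ := haff (f u) ⟨u, rfl⟩
      have hval : ∀ j, (f u) (e j) = e (c * j + d) := fun j => by rw [← hcd, e.apply_symm_apply]
      by_cases hc : c = 1
      · exact ⟨d, fun j => by rw [hval, hc, one_mul]⟩
      · exfalso
        have hne : (1 : ZMod p) - c ≠ 0 := sub_ne_zero.mpr (Ne.symm hc)
        have hfix : (f u) (e (d / (1 - c))) = e (d / (1 - c)) := by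
          rw [hval]
          congr 1
          field_simp
          ring
        obtain ⟨i, hi⟩ := hu (e (d / (1 - c))) (e (d / (1 - c) + 1))
        rw [Equiv.Perm.pow_apply_eq_self_of_apply_eq_self hfix] at hi
        exact one_ne_zero (add_eq_left.mp (e.injective hi).symm)
    have hc0 : c ≠ 0 := by
      intro hc0
      obtain ⟨i, hi⟩ := hu (e 0) (e 1)
      rw [Equiv.Perm.pow_apply_eq_self_of_apply_eq_self (by rw [hc, hc0, add_zero])] at hi
      exact zero_ne_one (e.injective hi)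
    obtain ⟨d, hd⟩ := htrans (f g) ⟨g, rfl⟩ hg
    refine ⟨(d / c).val, Equiv.ext fun x => ?_⟩
    obtain ⟨j, rfl⟩ := e.surjective x
    have hpow : ∀ n : ℕ, (f u ^ n) (e j) = e (j + n * c) := by
      intro n
      induction n with
      | zero => simp
      | succ n ih => rw [pow_succ', Equiv.Perm.mul_apply, ih, hc]; push_cast; ring_nf
    rw [hd, hpow, ZMod.natCast_zmod_val, div_mul_cancel₀ _ hc0]
  · refine Or.inl fun x y z w hxy hzw => ?_
    obtain ⟨⟨h, g, rfl⟩, h1, h3⟩ := (MulAction.is_two_pretransitive_iff (G := f.range) (α := α)).mp h2 hxy hzw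
    exact ⟨g, h1, h3⟩

namespace Setup

variable {p : ℕ} {a b : Ω} {B : Finset Ω} {P : Subgroup G} (S : Setup G p a b B P)
include S

omit [Finite G] in
theorem fact : Fact p.Prime := ⟨S.hp⟩

omit [Finite G] in
theorem three_le : 3 ≤ p := by have := S.hp.two_le; have := S.hp2; omega

omit [Finite G] in
theorem b_ne_a : b ≠ a := fun h => S.hB.1 (h ▸ S.hb)

omit [Finite G] in
theorem ne_a_of_smul {g : G} (hg : g ∈ stabilizer G a) {x : Ω} (hx : x ≠ a) : g • x ≠ a :=
  fun h => hx (MulAction.injective g (h.trans (MulAction.mem_stabilizer_iff.mp hg).symm))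

theorem P_fix {v : G} (hv : v ∈ P) (hvb : v • b = b) : v = 1 := by
  haveI := S.fact
  by_contra hne
  have h1 : orderOf v ∣ p ^ 2 := by
    have h := orderOf_dvd_natCard (⟨v, hv⟩ : P)
    rwa [S.hPc, Subgroup.orderOf_mk] at h
  have h2 : orderOf v ∣ Nat.card ↥(stabilizer G a ⊓ stabilizer G b) := by
    exact (Subgroup.orderOf_coe (⟨v, S.hP hv, hvb⟩ : ↥(stabilizer G a ⊓ stabilizer G b))).symm ▸
      orderOf_dvd_natCard (⟨v, S.hP hv, hvb⟩ : ↥(stabilizer G a ⊓ stabilizer G b))
  obtain ⟨i, -, hi⟩ := (Nat.dvd_prime_pow S.hp).mp h1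
  rcases Nat.eq_zero_or_pos i with rfl | hi0
  · exact hne (orderOf_eq_one_iff.mp (by rw [hi, pow_zero]))
  · exact S.hH ((dvd_pow_self p (by omega)).trans (hi ▸ h2))

theorem P_inj {v w : G} (hv : v ∈ P) (hw : w ∈ P) (h : v • b = w • b) : v = w := by
  have := S.P_fix (mul_mem (inv_mem hw) hv) (by rw [mul_smul, h, inv_smul_smul])
  exact (inv_mul_eq_one.mp this).symm

theorem P_trans {x : Ω} (hx : x ≠ a) : ∃ v ∈ P, v • b = x := by
  let f : P → {y : Ω // y ≠ a} := fun v => ⟨(v : G) • b, S.ne_a_of_smul (S.hP v.2) S.b_ne_a⟩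
  have hinj : Function.Injective f := fun v w h =>
    Subtype.ext (S.P_inj v.2 w.2 (congrArg Subtype.val h))
  have hbij := hinj.bijective_of_nat_card_le (by
    rw [S.hPc, Nat.card_eq_fintype_card, Fintype.card_subtype_compl, Fintype.card_subtype_eq, S.hn]
    omega)
  obtain ⟨v, hv⟩ := hbij.2 ⟨x, hx⟩
  exact ⟨v, v.2, congrArg Subtype.val hv⟩

omit [Finite G] in
theorem P_comm {v w : G} (hv : v ∈ P) (hw : w ∈ P) : v * w = w * v := by
  haveI := S.fact
  have h := IsPGroup.isMulCommutative_of_card_eq_prime_sq (p := p) (G := P) S.hPc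
  exact congrArg Subtype.val (h.is_comm.comm (⟨v, hv⟩ : P) ⟨w, hw⟩)

theorem mem_blocks_P {E : Finset Ω} (hE : E ∈ blocks G a B) : ∃ v ∈ P, E = v • B := by
  obtain ⟨g, hg, rfl⟩ := mem_blocks.mp hE
  obtain ⟨v, hv, hvb⟩ := S.P_trans (S.ne_a_of_smul hg S.b_ne_a)
  exact ⟨v, hv, S.hB.smul_eq_smul hg (S.hP hv) (Finset.smul_mem_smul_finset S.hb)
    (hvb ▸ Finset.smul_mem_smul_finset S.hb)⟩

omit [Finite G] in
theorem mem_H_smul_B {h : G} (hh : h ∈ stabilizer G a) (hhb : h • b = b) : h • B = B :=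
  S.hB.smul_eq hh S.hb (by rw [hhb]; exact S.hb)

theorem P0_le_kernel : P ⊓ stabilizer G B ≤ kernel G a B := by
  rintro v ⟨hv, hvB⟩
  refine mem_kernel.mpr ⟨S.hP hv, fun E hE => ?_⟩
  obtain ⟨w, hw, rfl⟩ := S.mem_blocks_P hE
  rw [← mul_smul, S.P_comm hv hw, mul_smul, MulAction.mem_stabilizer_iff.mp hvB]

theorem P0_trans {x : Ω} (hx : x ∈ B) : ∃ v ∈ P ⊓ stabilizer G B, v • b = x := by
  obtain ⟨v, hv, hvb⟩ := S.P_trans (fun h : x = a => S.hB.1 (h ▸ hx))
  exact ⟨v, ⟨hv, MulAction.mem_stabilizer_iff.mpr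
    (S.hB.smul_eq (S.hP hv) S.hb (hvb ▸ hx))⟩, hvb⟩

theorem P0_card : Nat.card ↥(P ⊓ stabilizer G B) = p := by
  let f : ↥(P ⊓ stabilizer G B) → {x : Ω // x ∈ B} := fun v => ⟨(v : G) • b, by
    have h := Finset.smul_mem_smul_finset (a := (v : G)) S.hb
    rwa [MulAction.mem_stabilizer_iff.mp v.2.2] at h⟩
  have hbij : Function.Bijective f := by
    refine ⟨fun v w h => Subtype.ext (S.P_inj v.2.1 w.2.1 (congrArg Subtype.val h)), ?_⟩
    rintro ⟨x, hx⟩
    obtain ⟨v, hv, hvb⟩ := S.P0_trans hx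
    exact ⟨⟨v, hv⟩, Subtype.ext hvb⟩
  rw [Nat.card_eq_of_bijective f hbij, Nat.card_eq_fintype_card, Fintype.card_coe, S.hBc]

/-- A generator of the subgroup of `P` fixing `B`. -/
theorem exists_gen : ∃ u ∈ P ⊓ stabilizer G B,
    u ^ p = 1 ∧ ∀ v ∈ P ⊓ stabilizer G B, ∃ i : ℕ, v = u ^ i := by
  haveI := S.fact
  haveI : IsCyclic ↥(P ⊓ stabilizer G B) := isCyclic_of_prime_card S.P0_card
  obtain ⟨⟨u, hu⟩, hgen⟩ := IsCyclic.exists_monoid_generator (α := ↥(P ⊓ stabilizer G B))
  refine ⟨u, hu, ?_, fun v hv => ?_⟩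
  · have h := pow_card_eq_one' (G := ↥(P ⊓ stabilizer G B)) (x := ⟨u, hu⟩)
    rw [S.P0_card] at h
    exact congrArg Subtype.val h
  · obtain ⟨i, hi⟩ := hgen ⟨v, hv⟩
    exact ⟨i, (congrArg Subtype.val hi).symm⟩

/-- An element of the kernel fixing a whole translate of `B` is trivial. -/
theorem kernel_faithful {k : G} (hk : k ∈ kernel G a B) {E : Finset Ω} (hE : E ∈ blocks G a B)
    (hfix : ∀ x ∈ E, k • x = x) : k = 1 := by
  haveI := S.fact
  obtain ⟨w, hw, rfl⟩ := S.mem_blocks_P hE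
  suffices h : ∀ k ∈ kernel G a B, (∀ x ∈ B, k • x = x) → k = 1 by
    have hk' := h (w⁻¹ * k * w⁻¹⁻¹) (kernel_conj (inv_mem (S.hP hw)) hk) (fun x hx => by
      rw [inv_inv, mul_smul, mul_smul, hfix _ (Finset.smul_mem_smul_finset hx), inv_smul_smul])
    rw [inv_inv, mul_assoc, inv_mul_eq_one] at hk'
    exact mul_eq_right.mp hk'.symm
  clear hk hfix k hE
  intro k hk hfix
  refine S.faithful k fun e => ?_
  by_cases he : e = a
  · rw [he]; exact kernel_le a B hk
  obtain ⟨w, hw, hwe⟩ := S.P_trans he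
  obtain ⟨u, hu, hup, hgen⟩ := S.exists_gen
  let N : Subgroup G := kernel G a B ⊓ ⨅ x ∈ B, stabilizer G x
  have hNmem : ∀ {g : G}, g ∈ N ↔ g ∈ kernel G a B ∧ ∀ x ∈ B, g • x = x := fun {g} => by
    simp only [N, Subgroup.mem_inf, Subgroup.mem_iInf, MulAction.mem_stabilizer_iff]
  have hEK : ∀ g ∈ kernel G a B, g • (w • B) = w • B := fun g hg =>
    (mem_kernel.mp hg).2 _ (mem_blocks.mpr ⟨w, S.hP hw, rfl⟩)
  have heE : e ∈ w • B := hwe ▸ Finset.smul_mem_smul_finset S.hb
  classical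
  let O : Finset Ω := Finset.univ.filter fun y => ∃ g ∈ N, g • e = y
  have hOmem : ∀ {y}, y ∈ O ↔ ∃ g ∈ N, g • e = y := fun {y} => by simp [O]
  have hOsub : O ⊆ w • B := by
    intro y hy
    obtain ⟨g, hg, rfl⟩ := hOmem.mp hy
    rw [← hEK g (hNmem.mp hg).1]
    exact Finset.smul_mem_smul_finset heE
  have hdiv : O.card ∣ Nat.card N := by
    have h1 : (orbit N e).ncard = O.card := by
      rw [← Set.ncard_coe_finset]
      congr 1
      ext y
      rw [Finset.mem_coe, hOmem]
      exact ⟨fun ⟨g, hg⟩ => ⟨g, g.2, hg⟩, fun ⟨g, hg, h⟩ => ⟨⟨g, hg⟩, h⟩⟩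
    rw [← h1, ← Nat.card_coe_set_eq]
    exact ⟨Nat.card (stabilizer N e), by
      rw [← Nat.card_prod, Nat.card_congr (MulAction.orbitProdStabilizerEquivGroup N e)]⟩
  have hNH : ¬ p ∣ Nat.card N := fun h => S.hH (h.trans (Subgroup.card_dvd_of_le fun g hg =>
    ⟨kernel_le a B (hNmem.mp hg).1, (hNmem.mp hg).2 b S.hb⟩))
  -- translates of the orbit by powers of `u` are orbits
  have hnorm : ∀ i : ℕ, ∀ g ∈ N, u ^ i * g * (u ^ i)⁻¹ ∈ N := by
    intro i g hg
    have hui : u ^ i ∈ P ⊓ stabilizer G B := pow_mem hu i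
    refine hNmem.mpr ⟨kernel_conj (S.hP hui.1) (hNmem.mp hg).1, fun x hx => ?_⟩
    have hx' : (u ^ i)⁻¹ • x ∈ B := by
      rw [Finset.inv_smul_mem_iff, MulAction.mem_stabilizer_iff.mp hui.2]
      exact hx
    rw [mul_smul, mul_smul, (hNmem.mp hg).2 _ hx', smul_inv_smul]
  have hsmall : O.card = 1 := by
    by_contra hne
    have hOpos : 0 < O.card := Finset.card_pos.mpr ⟨e, hOmem.mpr ⟨1, one_mem _, one_smul _ _⟩⟩
    have hOp : O.card < p := by
      have hle := Finset.card_le_card hOsub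
      rw [Finset.card_smul_finset, S.hBc] at hle
      rcases hle.lt_or_eq with h | h
      · exact h
      · exact absurd (h ▸ hdiv) hNH
    have htrans : ∀ i : ℕ, ∀ y ∈ u ^ i • O, ∀ z, z ∈ u ^ i • O ↔ ∃ g ∈ N, g • y = z := by
      intro i y hy z
      obtain ⟨y', hy', rfl⟩ := Finset.mem_smul_finset.mp hy
      obtain ⟨g, hg, rfl⟩ := hOmem.mp hy'
      constructor
      · intro hz
        obtain ⟨z', hz', rfl⟩ := Finset.mem_smul_finset.mp hz
        obtain ⟨g', hg', rfl⟩ := hOmem.mp hz'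
        refine ⟨_, hnorm i _ (mul_mem hg' (inv_mem hg)), ?_⟩
        rw [mul_smul, mul_smul, inv_smul_smul, mul_smul, inv_smul_smul]
      · rintro ⟨g', hg', rfl⟩
        refine Finset.mem_smul_finset.mpr ⟨((u ^ i)⁻¹ * g' * u ^ i) • g • e, hOmem.mpr
          ⟨(u ^ i)⁻¹ * g' * u ^ i * g, mul_mem ?_ hg, mul_smul _ _ _⟩, ?_⟩
        · have hui : (u ^ i)⁻¹ ∈ P ⊓ stabilizer G B := inv_mem (pow_mem hu i)
          obtain ⟨j, hj⟩ := hgen _ hui
          have := hnorm j g' hg'
          rwa [← hj, inv_inv] at this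
        · rw [mul_smul, mul_smul, smul_inv_smul]
    have hEcover : w • B = (Finset.range p).biUnion fun i => u ^ i • O := by
      apply Finset.Subset.antisymm
      · intro y hy
        obtain ⟨x, hx, rfl⟩ := Finset.mem_smul_finset.mp hy
        obtain ⟨v, hv, rfl⟩ := S.P0_trans hx
        obtain ⟨i, rfl⟩ := hgen v hv
        rw [← mul_smul, S.P_comm hw (pow_mem hu.1 i), mul_smul, hwe, pow_eq_pow_mod i hup]
        exact Finset.mem_biUnion.mpr ⟨i % p, Finset.mem_range.mpr (Nat.mod_lt _ S.hp.pos),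
          Finset.smul_mem_smul_finset (hOmem.mpr ⟨1, one_mem _, one_smul _ _⟩)⟩
      · intro y hy
        obtain ⟨i, -, hi⟩ := Finset.mem_biUnion.mp hy
        obtain ⟨x, hx, rfl⟩ := Finset.mem_smul_finset.mp hi
        rw [← hEK _ (S.P0_le_kernel (pow_mem hu i))]
        exact Finset.smul_mem_smul_finset (hOsub hx)
    have hcl : ∀ i j : ℕ, u ^ i • O = u ^ j • O ∨ Disjoint (u ^ i • O) (u ^ j • O) := by
      intro i j
      by_cases h : Disjoint (u ^ i • O) (u ^ j • O)
      · exact Or.inr h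
      · obtain ⟨y, hy, hy'⟩ := Finset.not_disjoint_iff.mp h
        exact Or.inl (Finset.ext fun z => (htrans i y hy z).trans (htrans j y hy' z).symm)
    have hper : ∀ i j : ℕ, i < j → j < p → u ^ i • O ≠ u ^ j • O := by
      intro i j hij hjp h
      have hd : u ^ (j - i) • O = O := by
        have h' := congrArg (fun X : Finset Ω => (u ^ i)⁻¹ • X) h
        simp only [inv_smul_smul] at h'
        rw [← mul_smul, ← Nat.add_sub_cancel' hij.le, pow_add, inv_mul_cancel_left] at h'
        exact h'.symm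
      have hall : ∀ m : ℕ, u ^ m • O = O := by
        intro m
        have hstep : ∀ n : ℕ, (u ^ (j - i)) ^ n • O = O := fun n => by
          induction n with
          | zero => rw [pow_zero, one_smul]
          | succ n ih => rw [pow_succ, mul_smul, hd, ih]
        obtain ⟨n, hn⟩ : ∃ n : ℕ, ((j - i) * n : ℕ) % p = m % p := by
          refine ⟨((m : ZMod p) / ((j - i : ℕ) : ZMod p)).val, ?_⟩
          have hne' : (((j - i : ℕ)) : ZMod p) ≠ 0 := by
            rw [Ne, ZMod.natCast_eq_zero_iff]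
            intro hd'
            have := Nat.le_of_dvd (by omega) hd'
            omega
          have hc : (((j - i) * ((m : ZMod p) / ((j - i : ℕ) : ZMod p)).val : ℕ) : ZMod p) = m := by
            rw [Nat.cast_mul, ZMod.natCast_zmod_val, mul_div_cancel₀ _ hne']
          exact (ZMod.natCast_eq_natCast_iff' _ _ _).mp hc
        rw [pow_eq_pow_mod m hup, ← hn, ← pow_eq_pow_mod _ hup, pow_mul]
        exact hstep n
      rw [Finset.ext_iff] at hEcover
      have : w • B ⊆ O := fun y hy => by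
        obtain ⟨m, -, hm⟩ := Finset.mem_biUnion.mp ((hEcover y).mp hy)
        rwa [hall m] at hm
      have := Finset.card_le_card this
      rw [Finset.card_smul_finset, S.hBc] at this
      omega
    have hcard := congrArg Finset.card hEcover
    rw [Finset.card_smul_finset, S.hBc, Finset.card_biUnion, Finset.sum_const_nat
      (m := O.card) (fun i _ => Finset.card_smul_finset _ _), Finset.card_range] at hcard
    · have : p * 2 ≤ p * O.card := Nat.mul_le_mul_left p (by omega)
      have := S.hp.pos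
      omega
    · intro i hi j hj hij
      refine (hcl i j).resolve_left ?_
      rcases Nat.lt_or_gt_of_ne hij with h | h
      · exact hper i j h (Finset.mem_range.mp hj)
      · exact fun e' => hper j i h (Finset.mem_range.mp hi) e'.symm
  exact Finset.card_le_one.mp hsmall.le _ (hOmem.mpr ⟨k, hNmem.mpr ⟨hk, hfix⟩, rfl⟩) _
    (hOmem.mpr ⟨1, one_mem _, one_smul _ _⟩)

/-- For a subgroup `N` normal in the stabilizer of `a`, the fixed points of `N_b` apart from `a`
form a block; every stabilizer in `N` of such a point is `N_b`. -/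
theorem stab_eq_of_fixed {N : Subgroup G} (hN : N ≤ stabilizer G a)
    (hconj : ∀ g ∈ stabilizer G a, ∀ x ∈ N, g * x * g⁻¹ ∈ N) {y : Ω} (hy : y ≠ a)
    (hfix : ∀ t ∈ N ⊓ stabilizer G b, t • y = y) :
    N ⊓ stabilizer G y = N ⊓ stabilizer G b := by
  obtain ⟨v, hv, rfl⟩ := S.P_trans hy
  refine (Subgroup.eq_of_le_of_card_ge (fun t ht => Subgroup.mem_inf.mpr
    ⟨(Subgroup.mem_inf.mp ht).1, MulAction.mem_stabilizer_iff.mpr (hfix t ht)⟩) ?_).symm
  refine Nat.card_le_card_of_injective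
    (fun t : ↥(N ⊓ stabilizer G (v • b)) => (⟨v⁻¹ * (t : G) * v⁻¹⁻¹,
      hconj _ (inv_mem (S.hP hv)) _ t.2.1, by
        show (v⁻¹ * (t : G) * v⁻¹⁻¹) • b = b
        rw [inv_inv, mul_smul, mul_smul, MulAction.mem_stabilizer_iff.mp t.2.2, inv_smul_smul]⟩ :
      ↥(N ⊓ stabilizer G b))) ?_
  intro t t' h
  simpa using h

theorem fixSet_block {N : Subgroup G} (hN : N ≤ stabilizer G a)
    (hconj : ∀ g ∈ stabilizer G a, ∀ x ∈ N, g * x * g⁻¹ ∈ N) :
    ABlock G a ((fixSet (N ⊓ stabilizer G b)).erase a) ∧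
      b ∈ (fixSet (N ⊓ stabilizer G b)).erase a := by
  refine ⟨⟨Finset.notMem_erase _ _, fun g hg x hx hgx y hy => ?_⟩,
    Finset.mem_erase.mpr ⟨S.b_ne_a, mem_fixSet.mpr fun t ht => ht.2⟩⟩
  simp only [Finset.mem_erase, mem_fixSet] at hx hgx hy ⊢
  refine ⟨S.ne_a_of_smul hg hy.1, fun t ht => ?_⟩
  have h1 : g⁻¹ * t * g⁻¹⁻¹ ∈ N ⊓ stabilizer G b := by
    rw [← S.stab_eq_of_fixed hN hconj hx.1 hx.2]
    refine ⟨hconj _ (inv_mem hg) _ ht.1, ?_⟩
    show (g⁻¹ * t * g⁻¹⁻¹) • x = x
    rw [inv_inv, mul_smul, mul_smul, hgx.2 t ht, inv_smul_smul]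
  have h3 := hy.2 _ h1
  rw [inv_inv, mul_smul, mul_smul, inv_smul_eq_iff] at h3
  exact h3

/-- A fixed-point block of a non-trivial subgroup has one or `p` points. -/
theorem fixBlock_card {T : Subgroup G} (hT : T ≤ stabilizer G a) {t : G} (ht : t ∈ T) (ht1 : t ≠ 1)
    (hF : ABlock G a ((fixSet T).erase a)) (hb : b ∈ (fixSet (Ω := Ω) T).erase a) :
    ((fixSet (Ω := Ω) T).erase a).card = 1 ∨ ((fixSet (Ω := Ω) T).erase a).card = p := by
  rcases hF.card_cases S.h2 S.hp S.hn hb with h | h | h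
  · exact Or.inl h
  · exact Or.inr h
  · exfalso
    apply ht1
    apply S.faithful
    intro x
    by_cases hx : x = a
    · rw [hx]; exact hT ht
    have hall : (fixSet T).erase a = (Finset.univ : Finset Ω).erase a := by
      refine Finset.eq_of_subset_of_card_le (Finset.erase_subset_erase _ (Finset.subset_univ _)) ?_
      rw [h, Finset.card_erase_of_mem (Finset.mem_univ _), Finset.card_univ, S.hn]
      omega
    have hxm : x ∈ (fixSet T).erase a := hall ▸ Finset.mem_erase.mpr ⟨hx, Finset.mem_univ x⟩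
    exact mem_fixSet.mp (Finset.mem_erase.mp hxm).2 t ht

/-- Two different blocks of size `p` through `b` meet only in `b`. -/
theorem inter_eq {D : Finset Ω} (hD : ABlock G a D) (hbD : b ∈ D) (hDc : D.card = p)
    (hDB : D ≠ B) : B ∩ D = {b} := by
  have hb' : b ∈ B ∩ D := Finset.mem_inter.mpr ⟨S.hb, hbD⟩
  have hle : (B ∩ D).card ≤ B.card := Finset.card_le_card Finset.inter_subset_left
  rcases (S.hB.inter hD).card_cases S.h2 S.hp S.hn hb' with h | h | h
  · exact (Finset.eq_of_subset_of_card_le (Finset.singleton_subset_iff.mpr hb') (by simp [h])).symm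
  · exfalso
    have h1 : B ∩ D = B := Finset.eq_of_subset_of_card_le Finset.inter_subset_left (by rw [h, S.hBc])
    have h3 : B ⊆ D := h1 ▸ Finset.inter_subset_right
    exact hDB (Finset.eq_of_subset_of_card_le h3 (by rw [hDc, S.hBc])).symm
  · rw [h, S.hBc] at hle
    have := S.three_le
    nlinarith

/-- A block of size `p` meeting `B` only in `b` meets every translate of `B` exactly once. -/
theorem meets_once {D : Finset Ω} (hD : ABlock G a D) (hDc : D.card = p)
    (hBD : B ∩ D = {b}) {E : Finset Ω} (hE : E ∈ blocks G a B) :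
    ∃ x, E ∩ D = {x} := by
  have hle : ∀ E ∈ blocks G a B, (E ∩ D).card ≤ 1 := by
    intro E hE
    rw [Finset.card_le_one]
    intro x hx y hy
    obtain ⟨hxE, hxD⟩ := Finset.mem_inter.mp hx
    obtain ⟨hyE, hyD⟩ := Finset.mem_inter.mp hy
    have hxa : x ≠ a := fun h => hD.1 (h ▸ hxD)
    obtain ⟨g, hg, hgx⟩ := exists_stab_smul S.h2 hxa S.b_ne_a
    have hgE : g • E = B := blocks_eq_of_mem S.hB (smul_mem_blocks hg hE) S.hb
      (hgx ▸ Finset.smul_mem_smul_finset hxE)
    have hgD : g • D = D := hD.smul_eq hg hxD (by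
      rw [hgx]; exact (Finset.mem_inter.mp (hBD.symm ▸ Finset.mem_singleton_self b)).2)
    have hgy : g • y ∈ B ∩ D := Finset.mem_inter.mpr
      ⟨hgE ▸ Finset.smul_mem_smul_finset hyE, hgD ▸ Finset.smul_mem_smul_finset hyD⟩
    rw [hBD, Finset.mem_singleton, ← hgx] at hgy
    exact (smul_left_cancel g hgy).symm
  have hsum : ∑ E ∈ blocks G a B, (E ∩ D).card = D.card := by
    rw [← Finset.card_biUnion, ← Finset.biUnion_inter]
    · congr 1
      apply Finset.inter_eq_right.mpr
      intro x hx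
      obtain ⟨E, hE, hxE⟩ := exists_block_mem S.h2 S.hB S.hb (fun h : x = a => hD.1 (h ▸ hx))
      exact Finset.mem_biUnion.mpr ⟨E, hE, hxE⟩
    · intro E hE F hF hne
      obtain ⟨g, hg, rfl⟩ := mem_blocks.mp hE
      obtain ⟨h, hh, rfl⟩ := mem_blocks.mp hF
      exact Finset.disjoint_left.mpr fun x hx hx' =>
        hne (S.hB.smul_eq_smul hg hh (Finset.mem_inter.mp hx).1 (Finset.mem_inter.mp hx').1)
  apply Finset.card_eq_one.mp
  by_contra hne
  have h0 : (E ∩ D).card < 1 := lt_of_le_of_ne (hle E hE) hne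
  have hlt : ∑ E ∈ blocks G a B, (E ∩ D).card < ∑ _E ∈ blocks G a B, 1 :=
    Finset.sum_lt_sum hle ⟨E, hE, h0⟩
  rw [hsum, hDc, Finset.sum_const, smul_eq_mul, mul_one,
    card_blocks S.h2 S.hp S.hn S.hB S.hb S.hBc] at hlt
  omega

/-- There is no involution in the kernel fixing pointwise a second block in degree ten. -/
theorem no_three (hp3 : p = 3) {D : Finset Ω} (hD : ABlock G a D) (hbD : b ∈ D)
    (hDc : D.card = p) (hDB : D ≠ B) {t : G} (ht : t ∈ kernel G a B) (ht1 : t ≠ 1)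
    (ht2 : t ^ 2 = 1) (hfix : ∀ x ∈ D, t • x = x) : False := by
  subst hp3
  have hBD := S.inter_eq hD hbD hDc hDB
  have hF : (Finset.univ.filter fun x : Ω => toPermHom G Ω t x = x) = insert a D := by
    apply Finset.Subset.antisymm
    · intro x hx
      rw [Finset.mem_filter, toPermHom_apply, toPerm_apply] at hx
      rw [Finset.mem_insert]
      by_contra hne
      rw [not_or] at hne
      obtain ⟨E, hE, hxE⟩ := exists_block_mem S.h2 S.hB S.hb hne.1
      obtain ⟨y, hy⟩ := S.meets_once hD hDc hBD hE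
      obtain ⟨hyE, hyD⟩ := Finset.mem_inter.mp (hy.symm ▸ Finset.mem_singleton_self y)
      refine ht1 (S.kernel_faithful ht hE ?_)
      intro z hz
      by_contra hzne
      have htz : t • z ∈ E := (mem_kernel.mp ht).2 E hE ▸ Finset.smul_mem_smul_finset hz
      have hxy : x ≠ y := fun h => hne.2 (h ▸ hyD)
      have hEc : E.card = 3 := by
        obtain ⟨g, -, rfl⟩ := mem_blocks.mp hE
        rw [Finset.card_smul_finset, S.hBc]
      have hty : t • y = y := hfix y hyD
      have hzx : z ≠ x := fun h => hzne (h ▸ hx.2)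
      have hzy : z ≠ y := fun h => hzne (h ▸ hty)
      have htzx : t • z ≠ x := fun h => hzx (smul_left_cancel t (h.trans hx.2.symm))
      have htzy : t • z ≠ y := fun h => hzy (smul_left_cancel t (h.trans hty.symm))
      have h4 : ({x, y, z, t • z} : Finset Ω) ⊆ E := by
        simp [Finset.insert_subset_iff, hxE, hyE, hz, htz]
      have := Finset.card_le_card h4
      rw [hEc, Finset.card_insert_of_notMem (by simp [hxy, hzx.symm, htzx.symm]),
        Finset.card_insert_of_notMem (by simp [hzy.symm, htzy.symm]),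
        Finset.card_pair (Ne.symm hzne)] at this
      omega
    · intro x hx
      rw [Finset.mem_filter, toPermHom_apply, toPerm_apply]
      refine ⟨Finset.mem_univ _, ?_⟩
      rcases Finset.mem_insert.mp hx with rfl | hx
      · exact kernel_le _ B ht
      · exact hfix x hx
  obtain ⟨m, hm, hsg⟩ := sign_of_sq_eq_one (toPermHom G Ω t) (by rw [← map_pow, ht2, map_one])
  rw [hF, Finset.card_insert_of_notMem hD.1, hDc, S.hn] at hm
  have hm3 : m = 3 := by omega
  rw [S.hsign, hm3] at hsg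
  exact absurd hsg (by decide)

omit [Finite G] in
/-- The image of `{a} ∪ B` under an element swapping `a` and `b`. -/
theorem swap_line {s : G} (hsa : s • a = b) (hsb : s • b = a) :
    b ∈ (s • insert a B).erase a ∧ ((s • insert a B).erase a).card = p ∧
      insert a ((s • insert a B).erase a) = s • insert a B ∧
      ∀ h ∈ stabilizer G a ⊓ stabilizer G b,
        ∀ x ∈ (s • insert a B).erase a, h • x ∈ (s • insert a B).erase a := by
  have ha : a ∈ s • insert a B :=
    Finset.mem_smul_finset.mpr ⟨b, Finset.mem_insert_of_mem S.hb, hsb⟩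
  refine ⟨Finset.mem_erase.mpr ⟨S.b_ne_a, Finset.mem_smul_finset.mpr
    ⟨a, Finset.mem_insert_self _ _, hsa⟩⟩, ?_, Finset.insert_erase ha, ?_⟩
  · rw [Finset.card_erase_of_mem ha, Finset.card_smul_finset,
      Finset.card_insert_of_notMem S.hB.1, S.hBc, Nat.add_sub_cancel]
  · intro h hh x hx
    obtain ⟨hxa, hxs⟩ := Finset.mem_erase.mp hx
    refine Finset.mem_erase.mpr ⟨S.ne_a_of_smul hh.1 hxa, ?_⟩
    have h' : (s⁻¹ * h * s) • a = a ∧ (s⁻¹ * h * s) • b = b := by
      constructor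
      · rw [mul_smul, mul_smul, hsa, MulAction.mem_stabilizer_iff.mp hh.2, inv_smul_eq_iff, hsa]
      · rw [mul_smul, mul_smul, hsb, MulAction.mem_stabilizer_iff.mp hh.1, inv_smul_eq_iff, hsb]
    have hfix : (s⁻¹ * h * s) • insert a B = insert a B := by
      rw [Finset.smul_finset_insert, h'.1, S.mem_H_smul_B h'.1 h'.2]
    have hh' : h • (s • insert a B) = s • insert a B := by
      rwa [mul_smul, mul_smul, inv_smul_eq_iff] at hfix
    exact hh' ▸ Finset.smul_mem_smul_finset hxs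

end Setup

end CfsgLib.Perm.SqOne
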